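import Groth.Agent.AmpleThLib.Locus
import Mathlib.AlgebraicGeometry.QuasiAffine

/-!
# Ample modules: the loci form a basis; quasi-affine schemes
-/

set_option autoImplicit false
universe u

open CategoryTheory CategoryTheory.Limits AlgebraicGeometry TopologicalSpace Opposite
open AmpleLib
open TwistLib (genSet)

noncomputable section

namespace AmpleThLib

variable {X : Scheme.{u}} {L : X.Modules} (hL : PicF.IsInvertible L)

lemma zero_genSet (f : Γ(X, ⊤)) :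
    genSet (tensorPow_isInvertible hL 0) (show Γ(CohB1.tensorPow L 0, ⊤) from f) = X.basicOpen f := by
  have hg : GenOn (Coh.structureModule X) (W := ⊤) (1 : Γ(X, ⊤)) := one_genOn ⊤
  have hr : f • (show Γ(CohB1.tensorPow L 0, ⊤) from (1 : Γ(X, ⊤))) =
      res (CohB1.tensorPow L 0) (le_top : (⊤ : X.Opens) ≤ ⊤) (show Γ(CohB1.tensorPow L 0, ⊤) from f) := by
    rw [res_refl]
    exact mul_one f
  rw [← mem_genSet_coeff (tensorPow_isInvertible hL 0) _ hg hr, inf_top_eq]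

/-- a section on the locus `V` of `t`, generating on `V`, gives a locus `V` in higher degree -/
theorem isLocus_of_gen [CompactSpace X] [QuasiSeparatedSpace X] {d r : ℕ}
    (t : Γ(CohB1.tensorPow L d, ⊤))
    {s : Γ(CohB1.tensorPow L r, genSet (tensorPow_isInvertible hL d) t)} (hs : GenOn _ s) :
    ∃ N, ∀ k, N ≤ k → IsLocus hL (r + d * k) (genSet (tensorPow_isInvertible hL d) t) := by
  obtain ⟨N, hN⟩ := exists_extend hL t s
  refine ⟨N + 1, fun k hk => ?_⟩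
  obtain ⟨k, rfl⟩ : ∃ k', k = k' + 1 := ⟨k - 1, by omega⟩
  obtain ⟨u, hu⟩ := hN k (by omega)
  rw [show r + d * (k + 1) = r + d * k + d by ring]
  refine ⟨mul hL u t, ?_⟩
  refine (genSet_mul hL u t).trans (inf_eq_right.mpr fun x hx => ?_)
  have h1 := (mul_genOn hL hs (tPow_genOn hL t (le_refl _) k)).genAt hx
  rw [← hu] at h1
  exact (genAt_res _ u hx).mp h1

/-- near each point of an open, an affine locus inside it -/
theorem exists_locus_le [CompactSpace X] [QuasiSeparatedSpace X] (hA : CohB1.IsAmple L) {W : X.Opens}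
    {x : X} (hx : x ∈ W) :
    ∃ (n : ℕ) (V : X.Opens), 0 < n ∧ IsLocus hL n V ∧ x ∈ V ∧ IsAffineOpen V ∧ V ≤ W := by
  obtain ⟨d, V, hd, ⟨t, ht⟩, hxV, hV⟩ := ((isAmple_iff (hL := hL)).mp hA).2 x
  subst ht
  obtain ⟨g, hgW, hxg⟩ := hV.exists_basicOpen_le (V := W) ⟨x, hx⟩ hxV
  obtain ⟨N, hN⟩ := exists_extend hL (r := 0) t g
  obtain ⟨u, hu⟩ := hN N le_rfl
  have hgen : GenOn _ (mul hL (m := 0) (show Γ(CohB1.tensorPow L 0,
      genSet (tensorPow_isInvertible hL d) t) from (1 : Γ(X, _))) (res _ le_top (tPow hL t N))) :=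
    mul_genOn hL (one_genOn _) (tPow_genOn hL t le_rfl N)
  have hcoef : g • mul hL (m := 0) (show Γ(CohB1.tensorPow L 0,
      genSet (tensorPow_isInvertible hL d) t) from (1 : Γ(X, _))) (res _ le_top (tPow hL t N)) =
        res _ le_top u := by
    rw [hu]
    have e := mul_smul_smul hL (m := 0) g 1 (show Γ(CohB1.tensorPow L 0,
      genSet (tensorPow_isInvertible hL d) t) from (1 : Γ(X, _))) (res _ le_top (tPow hL t N))
    rw [one_smul, mul_one] at e
    rw [← e]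
    exact congrArg (fun z : Γ(CohB1.tensorPow L 0, genSet (tensorPow_isInvertible hL d) t) =>
      mul hL z (res _ le_top (tPow hL t N))) (mul_one g)
  have hl := mem_genSet_coeff (tensorPow_isInvertible hL (0 + d * N)) u hgen hcoef
  exact ⟨0 + d * N + d, X.basicOpen g, by omega, ⟨mul hL u t, (genSet_mul hL u t).trans hl⟩, hxg,
    hV.basicOpen g, hgW⟩

include hL in
theorem isAmple_iff_isTopologicalBasis [CompactSpace X] [QuasiSeparatedSpace X]
    (hA : CohB1.IsAmple L) : TopologicalSpace.IsTopologicalBasis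
      {U : Set X | ∃ (n : ℕ) (s : Coh.structureModule X ⟶ CohB1.tensorPow L (n + 1)),
        U = (CohB1.genLocus (CohB1.tensorPow L (n + 1)) s : Set X)} := by
  refine isTopologicalBasis_of_isOpen_of_nhds ?_ fun x W hx hW => ?_
  · rintro _ ⟨n, s, rfl⟩
    exact (CohB1.genLocus _ s).2
  · obtain ⟨n, V, hn, ⟨σ, rfl⟩, hxV, -, hle⟩ := exists_locus_le hL hA (W := ⟨W, hW⟩) hx
    obtain ⟨n, rfl⟩ := Nat.exists_eq_succ_of_ne_zero hn.ne'
    exact ⟨_, ⟨n, QCohLib.unitHom _ σ, by rw [genLocus_unitHom (tensorPow_isInvertible hL (n + 1)) σ]⟩,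
      hxV, hle⟩

include hL in
theorem isAmple_tensorPow_iff {n : ℕ} (hn : 0 < n) :
    CohB1.IsAmple L ↔ CohB1.IsAmple (CohB1.tensorPow L n) := by
  rw [isAmple_iff (hL := hL), isAmple_iff (hL := tensorPow_isInvertible hL n)]
  refine and_congr_right fun _ => forall_congr' fun x => ⟨?_, ?_⟩
  · rintro ⟨m, V, hm, hV, hxV, haff⟩
    obtain ⟨σ, hσ⟩ := (mul_comm m n) ▸ hV.mul_right hn
    obtain ⟨φ, -⟩ := exists_powIso hL n m
    refine ⟨m, V, hm, ⟨φ.inv.app ⊤ σ, ?_⟩, hxV, haff⟩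
    rw [← hσ]
    exact genSet_iso _ _ φ.symm σ
  · rintro ⟨m, V, hm, ⟨σ, hσ⟩, hxV, haff⟩
    obtain ⟨φ, -⟩ := exists_powIso hL n m
    exact ⟨n * m, V, Nat.mul_pos hn hm, ⟨φ.hom.app ⊤ σ, (genSet_iso _ _ φ σ).trans hσ⟩, hxV, haff⟩

include hL in
theorem isAmple_of_isQuasiAffine [X.IsQuasiAffine] : CohB1.IsAmple L := by
  refine (isAmple_iff (hL := hL)).mpr ⟨inferInstance, fun x => ?_⟩
  obtain ⟨U, e, hxU, he⟩ := TwistLib.exists_genOn hL x
  obtain ⟨_, ⟨f, hfaff, rfl⟩, hxf, hfU⟩ :=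
    Opens.isBasis_iff_nbhd.mp (Scheme.IsQuasiAffine.isBasis_basicOpen X) hxU
  let t : Γ(CohB1.tensorPow L 0, ⊤) := f
  have ht : genSet (tensorPow_isInvertible hL 0) t = X.basicOpen f := zero_genSet hL f
  have hle : genSet (tensorPow_isInvertible hL 0) t ≤ U := ht.le.trans hfU
  obtain ⟨N, hN⟩ := isLocus_of_gen hL t (r := 1) ((pS_genOn he 1).res hle)
  exact ⟨_, _, by omega, hN N le_rfl, ht ▸ hxf, ht ▸ hfaff⟩

/-- loci of a power of a module with a global generator are basic opens -/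
theorem IsLocus.exists_basicOpen {M : X.Modules} {hM : PicF.IsInvertible M} {g : Γ(M, ⊤)}
    (hg : GenOn M g) {n : ℕ} {V : X.Opens} (h : IsLocus hM n V) :
    ∃ f : Γ(X, ⊤), X.basicOpen f = V := by
  obtain ⟨σ, rfl⟩ := h
  obtain ⟨f, hf⟩ := exists_coeff σ (pS_genOn hg n)
  exact ⟨f, by rw [← mem_genSet_coeff _ σ (pS_genOn hg n) hf, inf_top_eq]⟩

theorem shT_isInvertible {M N : X.Modules} (hM : PicF.IsInvertible M) (hN : PicF.IsInvertible N) :
    PicF.IsInvertible (CohB1.tensorMod M N) := fun x => by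
  obtain ⟨U, e, hxU, he⟩ := TwistLib.exists_genOn hM x
  obtain ⟨W, g, hxW, hg⟩ := TwistLib.exists_genOn hN x
  exact ⟨U ⊓ W, ⟨hxU, hxW⟩, TwistLib.nonempty_iso_of_genOn _
    (shT_genOn (he.res inf_le_left) (hg.res (inf_le_right : U ⊓ W ≤ W)))⟩

theorem genSet_shT {M N : X.Modules} (hM : PicF.IsInvertible M) (hN : PicF.IsInvertible N)
    (σ : Γ(M, ⊤)) (τ : Γ(N, ⊤)) :
    genSet (shT_isInvertible hM hN) (shT σ τ) = genSet hM σ ⊓ genSet hN τ := by
  ext y
  obtain ⟨U, e, hyU, he⟩ := TwistLib.exists_genOn hM y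
  obtain ⟨W, g, hyW, hg⟩ := TwistLib.exists_genOn hN y
  have hy : y ∈ U ⊓ W := ⟨hyU, hyW⟩
  have he' := he.res (inf_le_left : U ⊓ W ≤ U)
  have hg' := hg.res (inf_le_right : U ⊓ W ≤ W)
  obtain ⟨r, hr⟩ := exists_coeff σ he'
  obtain ⟨s, hs⟩ := exists_coeff τ hg'
  have hrs : (r * s) • shT (res M inf_le_left e) (res N (inf_le_right : U ⊓ W ≤ W) g) =
      res _ le_top (shT σ τ) := by
    rw [shT_res, ← hr, ← hs, shT_smul]
  have h1 := SetLike.ext_iff.mp (mem_genSet_coeff hM σ he' hr) y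
  have h2 := SetLike.ext_iff.mp (mem_genSet_coeff hN τ hg' hs) y
  have h3 := SetLike.ext_iff.mp (mem_genSet_coeff (shT_isInvertible hM hN) _ (shT_genOn he' hg') hrs) y
  rw [Scheme.basicOpen_mul] at h3
  simp only [Opens.mem_inf, hyU, hyW, and_true] at h1 h2 h3
  change y ∈ genSet _ _ ↔ y ∈ genSet _ _ ⊓ genSet _ _
  rw [Opens.mem_inf, h3, h1, h2]

/-- powers of a tensor product -/
theorem exists_tensorPowIso {M N : X.Modules} (hM : PicF.IsInvertible M) (hN : PicF.IsInvertible N)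
    (k : ℕ) : Nonempty (CohB1.tensorMod (CohB1.tensorPow M k) (CohB1.tensorPow N k) ≅
      CohB1.tensorPow (CohB1.tensorMod M N) k) := by
  let ι := (U : X.Opens) × {e : Γ(M, U) // GenOn M e} × {g : Γ(N, U) // GenOn N g}
  refine ⟨(exists_iso_gens (fun a : ι => a.1) (fun a => shT (pS a.2.1.1 k) (pS a.2.2.1 k))
    (fun a => pS (shT a.2.1.1 a.2.2.1) k) (fun x => ?_)
    (fun a => shT_genOn (pS_genOn a.2.1.2 k) (pS_genOn a.2.2.2 k))
    (fun a => pS_genOn (shT_genOn a.2.1.2 a.2.2.2) k) ?_).choose⟩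
  · obtain ⟨U, e, hxU, he⟩ := TwistLib.exists_genOn hM x
    obtain ⟨W, g, hxW, hg⟩ := TwistLib.exists_genOn hN x
    exact ⟨⟨U ⊓ W, ⟨res M inf_le_left e, he.res _⟩, ⟨res N inf_le_right g, hg.res _⟩⟩, hxU, hxW⟩
  intro a b V ha hb
  obtain ⟨c, hc⟩ := (a.2.1.2 V ha).2 (res M hb b.2.1.1)
  obtain ⟨d, hd⟩ := (a.2.2.2 V ha).2 (res N hb b.2.2.1)
  dsimp only at hc hd
  refine ⟨c ^ k * d ^ k, ?_, ?_⟩
  · rw [shT_res, shT_res, pS_res, pS_res, pS_res, pS_res, ← hc, ← hd, pS_smul, pS_smul, shT_smul]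
  · rw [pS_res, pS_res, shT_res, shT_res, ← hc, ← hd, shT_smul, pS_smul, mul_pow]

end AmpleThLib

end
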