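import Groth.Agent.AmpleThLib.Embed
import Groth.Agent.AmpleThLib.Ample

/-!
# Very ample powers of ample modules, over an affine base
-/

set_option autoImplicit false
universe u

open CategoryTheory CategoryTheory.Limits AlgebraicGeometry TopologicalSpace Opposite
open ChowLib RelProjLib AmpleLib
open TwistLib (genSet)

noncomputable section

namespace AmpleThLib

variable {X Y : Scheme.{u}}

theorem isAmple_of_isRelVeryAmplePn [IsAffine Y] (q : X ⟶ Y) [QuasiCompact q] {M : X.Modules}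
    (hM : PicF.IsInvertible M) (h : RelAmple.IsRelVeryAmplePn q M) : CohB1.IsAmple M := by
  obtain ⟨n, i, hi, hiq, ⟨φ⟩⟩ := h
  let r := i ≫ toPZ n Y
  let O1 := Twist.twist (gr.{u} n) ((1 : ℕ) : ℤ)
  let ψ : KFlatLib.pb r O1 ≅ M := ((Scheme.Modules.pullbackComp i (toPZ n Y)).app _).symm ≪≫ φ.symm
  let glob : Fin (n + 1) → Γ(O1, ⊤) := fun a =>
    Twist.globalOf (gr.{u} n) ⟨MvPolynomial.X a, X_mem a⟩
  let e : ∀ a, Γ(M, r ⁻¹ᵁ Dplus a) := fun a =>
    ψ.hom.app _ (KFlatLib.puSec r (res O1 (le_top : Dplus a ≤ ⊤) (glob a)))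
  have he : ∀ a, GenOn M (e a) := fun a => TwistLib.genOn_of_genAt fun x hx =>
    (TwistLib.genAt_app_iso ψ _ hx).mpr
      (TwistLib.GenAt.puSec r ((TwistLib.globalOf_genOn (gr.{u} n) (X_mem a)).genAt hx))
  let τ : Fin (n + 1) → Γ(M, ⊤) := fun j => ψ.hom.app ⊤ (KFlatLib.puSec r (glob j))
  have hτ : ∀ a j, res M (le_top : r ⁻¹ᵁ Dplus a ≤ ⊤) (τ j) = coord r a j le_rfl • e a := by
    intro a j
    have hc := TwistLib.frac_smul_globalOf (gr.{u} n) (X_mem a) (X_mem j)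
    have hfr : TwistLib.frac (gr.{u} n) (X_mem a) (X_mem j) = coordRing a j := rfl
    rw [hfr] at hc
    have h1 := congrArg (fun t => ψ.hom.app (r ⁻¹ᵁ Dplus a) (KFlatLib.puSec r t)) hc
    have e1 := congrArg (ψ.hom.app (r ⁻¹ᵁ Dplus a)) (TwistLib.puSec_smul r (cj a j)
      (res O1 (le_top : Dplus a ≤ ⊤) (glob a)))
    have h3 := (Scheme.Modules.Hom.app_smul ψ.hom _ _).symm.trans (e1.symm.trans h1)
    rw [coord_eq r a j le_rfl]
    rw [Scheme.Hom.app_eq_appLE] at h3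
    refine Eq.trans ?_ h3.symm
    exact ((congrArg (ψ.hom.app (r ⁻¹ᵁ Dplus a)) (TwistLib.puSec_res r le_top (glob j))).trans
      (NatTrans.naturality_apply ψ.hom.mapPresheaf (homOfLE (le_top : r ⁻¹ᵁ Dplus a ≤ ⊤)).op _)).symm
  have hle : (⊤ : X.Opens) ≤ (i ≫ CohB1.ProjSpaceOver.toBase n Y) ⁻¹ᵁ ⊤ := le_top
  refine ⟨hM, QuasiCompact.compactSpace_of_compactSpace q, fun y => ?_⟩
  have := hi
  obtain ⟨N, F, W, hF, hyW, hW, hloc⟩ := exists_affine_locus i (isAffineOpen_top Y) hle y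
  obtain ⟨σ, hσ⟩ := exists_section r M e τ
    ((i ≫ CohB1.ProjSpaceOver.toBase n Y).appLE ⊤ ⊤ hle).hom hτ hF
  have hgen : CohB1.genLocus _ (QCohLib.unitHom (CohB1.tensorPow M (N + 1)) σ) = W := by
    refine genLocus_eq σ W fun x => ?_
    obtain ⟨b, hb⟩ := Opens.mem_iSup.mp (show x ∈ ⨆ a, r ⁻¹ᵁ Dplus a by
      rw [← Scheme.Hom.preimage_iSup, iSup_Dplus]; trivial)
    rw [← genAt_res (le_top : r ⁻¹ᵁ Dplus b ≤ ⊤) σ hb, hσ b,
      genAt_smul_iff _ _ hb (E_genAt r M e he b (N + 1) hb), hloc b]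
    exact and_iff_right hb
  exact ⟨N, QCohLib.unitHom _ σ, by rw [hgen]; exact hyW, by rw [hgen]; exact hW⟩

theorem exists_data [IsAffine Y] (q : X ⟶ Y) [IsSeparated q] [QuasiCompact q]
    [LocallyOfFiniteType q] {L : X.Modules} (hL : PicF.IsInvertible L) (hA : CohB1.IsAmple L) :
    ∃ n₀ : ℕ, ∀ n, n₀ ≤ n → ∃ (m : ℕ) (v : Fin (m + 1) → Γ(CohB1.tensorPow L n, ⊤)) (K : Set (Fin (m + 1))),
      (∀ x : X, ∃ k ∈ K, x ∈ genSet (tensorPow_isInvertible hL n) (v k)) ∧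
      (∀ k ∈ K, IsAffineOpen (genSet (tensorPow_isInvertible hL n) (v k))) ∧
      ∀ k ∈ K, Subring.closure (Set.range (q.appLE ⊤ (genSet (tensorPow_isInvertible hL n) (v k)) le_top) ∪
        {c | ∃ l, c • res _ (le_top : genSet (tensorPow_isInvertible hL n) (v k) ≤ ⊤) (v k) =
          res _ le_top (v l)}) = ⊤ := by
  classical
  have : CompactSpace X := hA.2.1
  have : X.IsSeparated := ⟨by rw [← terminal.comp_from q]; infer_instance⟩
  have hloc : ∀ x : X, ∃ (d : ℕ) (V : X.Opens), 0 < d ∧ IsLocus hL d V ∧ x ∈ V ∧ IsAffineOpen V ∧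
      ∃ e : Γ(L, V), GenOn L e := by
    intro x
    obtain ⟨U, e, hxU, he⟩ := TwistLib.exists_genOn hL x
    obtain ⟨d, V, hd, hV, hxV, haff, hle⟩ := exists_locus_le hL hA (W := U) hxU
    exact ⟨d, V, hd, hV, hxV, haff, res L hle e, he.res hle⟩
  choose d V hd hV hmem haff e₀ he₀ using hloc
  obtain ⟨S, hS⟩ := isCompact_univ.elim_finite_subcover (fun x => (V x : Set X))
    (fun x => (V x).2) fun x _ => Set.mem_iUnion.mpr ⟨x, hmem x⟩
  let D := ∏ i : S, d i.1
  have hD : 0 < D := Finset.prod_pos fun i _ => hd i.1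
  have hVD : ∀ i : S, IsLocus hL D (V i.1) := fun i => by
    have h := (hV i.1).mul_right (k := ∏ j ∈ Finset.univ.erase i, d j.1) (Finset.prod_pos fun j _ => hd j.1)
    rwa [Finset.mul_prod_erase Finset.univ (fun j : S => d j.1) (Finset.mem_univ i)] at h
  choose t ht using hVD
  have hft : ∀ i : S, (q.appLE ⊤ (V i.1) le_top).hom.FiniteType := fun i =>
    q.finiteType_appLE (isAffineOpen_top Y) (haff i.1) le_top
  have hgens : ∀ i : S, ∃ G : Finset Γ(X, V i.1),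
      Subring.closure (Set.range (q.appLE ⊤ (V i.1) le_top) ∪ G) = ⊤ := by
    intro i
    let := (q.appLE ⊤ (V i.1) le_top).hom.toAlgebra
    obtain ⟨G, hG⟩ := (hft i : Algebra.FiniteType _ _).out
    refine ⟨G, ?_⟩
    rw [← show (Algebra.adjoin Γ(Y, ⊤) (G : Set Γ(X, V i.1))).toSubring = ⊤ by rw [hG]; rfl,
      Algebra.adjoin_eq_ring_closure]
    rfl
  choose G hG using hgens
  have hext : ∀ (i : S) (r : ℕ) (a : Γ(X, V i.1)), ∃ N, ∀ k, N ≤ k →
      ∃ w : Γ(CohB1.tensorPow L (r + D * k + D), ⊤),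
        genSet (tensorPow_isInvertible hL _) w ≤ V i.1 ∧
        res _ (le_top : V i.1 ≤ ⊤) w =
          a • mul hL (mul hL (pS (e₀ i.1) r) (res _ le_top (tPow hL (t i) k))) (res _ le_top (t i)) := by
    intro i r a
    obtain ⟨N, hN⟩ := exists_extend hL (t i) (r := r)
      (res _ (ht i).le (a • pS (e₀ i.1) r))
    refine ⟨N, fun k hk => ?_⟩
    obtain ⟨u, hu⟩ := hN k hk
    refine ⟨mul hL u (t i), ?_, ?_⟩
    · rw [genSet_mul]
      exact inf_le_right.trans (ht i).le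
    · have h1 := congrArg (res _ (ht i).ge) hu
      rw [mul_res, res_res, res_res, res_res] at h1
      erw [res_refl] at h1
      rw [mul_res, h1]
      have e2 := mul_smul_smul hL a 1 (pS (e₀ i.1) r) (res _ le_top (tPow hL (t i) k))
      rw [one_smul, mul_one] at e2
      rw [e2]
      have e3 := mul_smul_smul hL a 1 (mul hL (pS (e₀ i.1) r) (res _ le_top (tPow hL (t i) k)))
        (res _ (le_top : V i.1 ≤ ⊤) (t i))
      rw [one_smul, mul_one] at e3
      exact e3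
  choose N hN using hext
  let N₀ := ∑ i : S, ∑ r ∈ Finset.range D, (N i r 1 + ∑ a ∈ G i, N i r a)
  refine ⟨D * (N₀ + 2), fun n hn => ?_⟩
  obtain ⟨r, k, hr, hk, rfl⟩ : ∃ r k, r < D ∧ N₀ ≤ k ∧ n = r + D * k + D := by
    refine ⟨n % D, n / D - 1, Nat.mod_lt _ hD, ?_, ?_⟩
    · have : N₀ + 2 ≤ n / D := (Nat.le_div_iff_mul_le hD).mpr (by rwa [mul_comm] at hn)
      omega
    · have h1 : 1 ≤ n / D := by
        have : N₀ + 2 ≤ n / D := (Nat.le_div_iff_mul_le hD).mpr (by rwa [mul_comm] at hn)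
        omega
      obtain ⟨c, hc⟩ := Nat.exists_eq_add_of_le h1
      have := Nat.mod_add_div n D
      rw [hc] at this ⊢
      rw [Nat.add_sub_cancel_left]
      linarith
  have hNle : ∀ i : S, N i r 1 ≤ k ∧ ∀ a ∈ G i, N i r a ≤ k := by
    intro i
    have h1 : N i r 1 + ∑ a ∈ G i, N i r a ≤ N₀ :=
      le_trans (Finset.single_le_sum (f := fun r => N i r 1 + ∑ a ∈ G i, N i r a)
        (fun _ _ => Nat.zero_le _) (Finset.mem_range.mpr hr))
        (Finset.single_le_sum (f := fun i => ∑ r ∈ Finset.range D, (N i r 1 + ∑ a ∈ G i, N i r a))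
          (fun _ _ => Nat.zero_le _) (Finset.mem_univ i))
    exact ⟨by omega, fun a ha => (Finset.single_le_sum (fun _ _ => Nat.zero_le _) ha).trans (by omega)⟩
  choose w hwle hw using fun (i : S) (a : Γ(X, V i.1)) (ha : N i r a ≤ k) => hN i r a k ha
  let J := Option (Σ i : S, Option {a // a ∈ G i})
  let vJ : J → Γ(CohB1.tensorPow L (r + D * k + D), ⊤)
    | none => 0
    | some ⟨i, none⟩ => w i 1 (hNle i).1
    | some ⟨i, some a⟩ => w i a.1 ((hNle i).2 a.1 a.2)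
  obtain ⟨m, hm⟩ : ∃ m, Fintype.card J = m + 1 := ⟨_, (Nat.succ_pred_eq_of_pos Fintype.card_pos).symm⟩
  let ε : J ≃ Fin (m + 1) := Fintype.equivFinOfCardEq hm
  let M := CohB1.tensorPow L (r + D * k + D)
  have hM := tensorPow_isInvertible hL (r + D * k + D)
  let g : ∀ i : S, Γ(M, V i.1) := fun i =>
    mul hL (mul hL (pS (e₀ i.1) r) (res _ le_top (tPow hL (t i) k))) (res _ le_top (t i))
  have hg : ∀ i : S, GenOn M (g i) := fun i => by
    refine mul_genOn hL (mul_genOn hL (pS_genOn (he₀ i.1) r) (tPow_genOn hL (t i) (ht i).ge k)) ?_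
    have h := (TwistLib.genSet_genOn (tensorPow_isInvertible hL D) (t i)).res (ht i).ge
    rwa [res_res] at h
  have hlocus : ∀ i : S, genSet hM (vJ (some ⟨i, none⟩)) = V i.1 := fun i => by
    refine le_antisymm (hwle i 1 (hNle i).1) fun x hx => ?_
    have h1 := (hg i).genAt hx
    rw [show g i = res M le_top (w i 1 (hNle i).1) from ((hw i 1 (hNle i).1).trans (one_smul _ _)).symm] at h1
    exact (genAt_res _ _ hx).mp h1
  refine ⟨m, fun l => vJ (ε.symm l), Set.range fun i : S => ε (some ⟨i, none⟩), fun x => ?_, ?_, ?_⟩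
  · obtain ⟨i, hi, hx⟩ := Set.mem_iUnion₂.mp (hS (Set.mem_univ x))
    refine ⟨_, ⟨⟨i, hi⟩, rfl⟩, ?_⟩
    simp only [Equiv.symm_apply_apply]
    rw [hlocus]
    exact hx
  · rintro _ ⟨i, rfl⟩
    simp only [Equiv.symm_apply_apply]
    rw [hlocus]
    exact haff i.1
  rintro _ ⟨i, rfl⟩
  dsimp only
  have key : ∀ (U : X.Opens) (hU : U = V i.1), Subring.closure (Set.range (q.appLE ⊤ U le_top) ∪
      {c | ∃ l, c • res M (le_top : U ≤ ⊤) (vJ (some ⟨i, none⟩)) = res M le_top (vJ (ε.symm l))}) = ⊤ := by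
    intro U hU
    subst hU
    refine eq_top_iff.mpr ((hG i).ge.trans (Subring.closure_mono (Set.union_subset_union_right _ ?_)))
    intro a ha
    refine ⟨ε (some ⟨i, some ⟨a, ha⟩⟩), ?_⟩
    rw [Equiv.symm_apply_apply]
    change a • res M _ (w i 1 _) = res M _ (w i a _)
    rw [hw, hw, one_smul]
  have key' : ∀ (z : J), z = some ⟨i, none⟩ → Subring.closure (Set.range (q.appLE ⊤ (genSet hM (vJ z)) le_top) ∪
      {c | ∃ l, c • res M (le_top : genSet hM (vJ z) ≤ ⊤) (vJ z) = res M le_top (vJ (ε.symm l))}) = ⊤ := by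
    rintro z rfl
    exact key _ (hlocus i)
  exact key' _ (ε.symm_apply_apply _)

theorem eventually_veryAmple [IsAffine Y] (q : X ⟶ Y) [IsSeparated q] [QuasiCompact q]
    [LocallyOfFiniteType q] {L : X.Modules} (hL : PicF.IsInvertible L) (hA : CohB1.IsAmple L) :
    ∃ n₀ : ℕ, ∀ n, n₀ ≤ n → RelAmple.IsRelVeryAmplePn q (CohB1.tensorPow L n) := by
  obtain ⟨n₀, h⟩ := exists_data q hL hA
  refine ⟨n₀, fun n hn => ?_⟩
  obtain ⟨m, v, K, hc, ha, hs⟩ := h n hn
  exact exists_immersion q _ v K hc ha hs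

end AmpleThLib

end
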