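import Groth.Agent.AmpleThLib.Pow
import Groth.Agent.TwistLib.ProjSymExt
import Mathlib.AlgebraicGeometry.Morphisms.QuasiSeparated

/-!
# Loci of sections of powers; extension of sections
-/

set_option autoImplicit false
universe u

open CategoryTheory CategoryTheory.Limits AlgebraicGeometry TopologicalSpace Opposite
open AmpleLib
open TwistLib (genSet)

noncomputable section

namespace AmpleThLib

variable {X : Scheme.{u}} {L : X.Modules}

/-- restriction of functions -/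
abbrev rX {V W : X.Opens} (h : V ≤ W) (f : Γ(X, W)) : Γ(X, V) := X.presheaf.map (homOfLE h).op f

lemma unitHom_eq {M : X.Modules} (s : Coh.structureModule X ⟶ M) :
    s = QCohLib.unitHom M (s.app ⊤ (1 : Γ(X, ⊤))) := by
  apply Scheme.Modules.hom_ext
  intro V
  refine ConcreteCategory.hom_ext _ _ fun (r : Γ(X, V)) => ?_
  rw [QCohLib.unitHom_app, ← QCohLib.app_map]
  refine Eq.trans ?_ (QCohLib.app_smul s V r _)
  refine congrArg (s.app V) ?_
  refine Eq.trans ?_ (congrArg (fun t : Γ(X, V) => r * t)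
    (map_one (X.presheaf.map (homOfLE (le_top : V ≤ ⊤)).op).hom).symm)
  exact (mul_one r).symm

lemma genLocus_unitHom {M : X.Modules} (hM : PicF.IsInvertible M) (σ : Γ(M, ⊤)) :
    CohB1.genLocus M (QCohLib.unitHom M σ) = genSet hM σ :=
  genLocus_eq σ _ fun _ => Iff.rfl

lemma genLocus_hom {M : X.Modules} (hM : PicF.IsInvertible M) (s : Coh.structureModule X ⟶ M) :
    CohB1.genLocus M s = genSet hM (s.app ⊤ (1 : Γ(X, ⊤))) :=
  (congrArg (CohB1.genLocus M) (unitHom_eq s)).trans (genLocus_unitHom hM _)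

lemma genSet_iso {M N : X.Modules} (hM : PicF.IsInvertible M) (hN : PicF.IsInvertible N) (φ : M ≅ N)
    (σ : Γ(M, ⊤)) : genSet hN (φ.hom.app ⊤ σ) = genSet hM σ :=
  Opens.ext (Set.ext fun _ => TwistLib.genAt_app_iso φ σ trivial)

variable (hL : PicF.IsInvertible L)

lemma mul_genAt {m n : ℕ} {W : X.Opens} {σ : Γ(CohB1.tensorPow L m, W)}
    {τ : Γ(CohB1.tensorPow L n, W)} {x : X} {hx : x ∈ W} (hσ : GenAt _ σ hx) (hτ : GenAt _ τ hx) :
    GenAt _ (mul hL σ τ) hx :=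
  (TwistLib.genAt_app_iso (mulIso hL m n) _ hx).mpr (hσ.tensor hτ)

lemma mul_genOn {m n : ℕ} {W : X.Opens} {σ : Γ(CohB1.tensorPow L m, W)}
    {τ : Γ(CohB1.tensorPow L n, W)} (hσ : GenOn _ σ) (hτ : GenOn _ τ) : GenOn _ (mul hL σ τ) :=
  TwistLib.genOn_of_genAt fun _ hx => mul_genAt hL (hσ.genAt hx) (hτ.genAt hx)

theorem genSet_mul {m n : ℕ} (σ : Γ(CohB1.tensorPow L m, ⊤)) (τ : Γ(CohB1.tensorPow L n, ⊤)) :
    genSet (tensorPow_isInvertible hL (m + n)) (mul hL σ τ) =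
      genSet (tensorPow_isInvertible hL m) σ ⊓ genSet (tensorPow_isInvertible hL n) τ := by
  ext y
  obtain ⟨U, e, hyU, he⟩ := TwistLib.exists_genOn hL y
  obtain ⟨r, hr⟩ := exists_coeff σ (pS_genOn he m)
  obtain ⟨s, hs⟩ := exists_coeff τ (pS_genOn he n)
  have hrs : (r * s) • pS e (m + n) = res _ le_top (mul hL σ τ) := by
    rw [mul_res, ← hr, ← hs, mul_coeff hL he]
  have h1 := SetLike.ext_iff.mp (mem_genSet_coeff (tensorPow_isInvertible hL m) σ (pS_genOn he m) hr) y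
  have h2 := SetLike.ext_iff.mp (mem_genSet_coeff (tensorPow_isInvertible hL n) τ (pS_genOn he n) hs) y
  have h3 := SetLike.ext_iff.mp
    (mem_genSet_coeff (tensorPow_isInvertible hL (m + n)) (mul hL σ τ) (pS_genOn he _) hrs) y
  rw [Scheme.basicOpen_mul] at h3
  simp only [Opens.mem_inf, hyU, and_true] at h1 h2 h3
  change y ∈ genSet _ _ ↔ y ∈ genSet _ _ ⊓ genSet _ _
  rw [Opens.mem_inf, h3, h1, h2]

theorem genSet_pS {M : X.Modules} (hM : PicF.IsInvertible M) (σ : Γ(M, ⊤)) {k : ℕ} (hk : 0 < k) :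
    genSet (tensorPow_isInvertible hM k) (pS σ k) = genSet hM σ := by
  ext y
  obtain ⟨U, e, hyU, he⟩ := TwistLib.exists_genOn hM y
  obtain ⟨r, hr⟩ := exists_coeff σ he
  have hrk : r ^ k • pS e k = res _ le_top (pS σ k) := by rw [pS_res, ← hr, pS_smul]
  have h1 := SetLike.ext_iff.mp (mem_genSet_coeff hM σ he hr) y
  have h2 := SetLike.ext_iff.mp (mem_genSet_coeff (tensorPow_isInvertible hM k) (pS σ k) (pS_genOn he k) hrk) y
  rw [X.basicOpen_pow r hk] at h2
  simp only [Opens.mem_inf, hyU, and_true] at h1 h2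
  exact h2.trans h1.symm

/-- `V` is the locus of a global section of `L^n` -/
def IsLocus (n : ℕ) (V : X.Opens) : Prop :=
  ∃ σ : Γ(CohB1.tensorPow L n, ⊤), genSet (tensorPow_isInvertible hL n) σ = V

variable {hL}

theorem IsLocus.inf {m n : ℕ} {V W : X.Opens} (h : IsLocus hL m V) (h' : IsLocus hL n W) :
    IsLocus hL (m + n) (V ⊓ W) := by
  obtain ⟨σ, rfl⟩ := h
  obtain ⟨τ, rfl⟩ := h'
  exact ⟨_, genSet_mul hL σ τ⟩

theorem IsLocus.mul_right {m : ℕ} {V : X.Opens} (h : IsLocus hL m V) {k : ℕ} (hk : 0 < k) :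
    IsLocus hL (m * k) V := by
  obtain ⟨σ, rfl⟩ := h
  obtain ⟨φ, -⟩ := exists_powIso hL m k
  exact ⟨φ.hom.app ⊤ (pS σ k), (genSet_iso _ _ φ _).trans (genSet_pS _ σ hk)⟩

theorem isAmple_iff : CohB1.IsAmple L ↔ CompactSpace X ∧
    ∀ x : X, ∃ (n : ℕ) (V : X.Opens), 0 < n ∧ IsLocus hL n V ∧ x ∈ V ∧ IsAffineOpen V := by
  constructor
  · rintro ⟨-, hc, h⟩
    refine ⟨hc, fun x => ?_⟩
    obtain ⟨n, s, hx, hs⟩ := h x
    exact ⟨n + 1, _, n.succ_pos, ⟨_, (genLocus_hom (tensorPow_isInvertible hL (n + 1)) s).symm⟩, hx, hs⟩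
  · rintro ⟨hc, h⟩
    refine ⟨hL, hc, fun x => ?_⟩
    obtain ⟨n, V, hn, ⟨σ, rfl⟩, hx, hV⟩ := h x
    obtain ⟨n, rfl⟩ := Nat.exists_eq_succ_of_ne_zero hn.ne'
    refine ⟨n, QCohLib.unitHom _ σ, ?_⟩
    rw [genLocus_unitHom (tensorPow_isInvertible hL (n + 1)) σ]
    exact ⟨hx, hV⟩

variable (hL)

/-- powers of a section of a power, with exponents `d * k` -/
def tPow {d : ℕ} (t : Γ(CohB1.tensorPow L d, ⊤)) : ∀ k : ℕ, Γ(CohB1.tensorPow L (d * k), ⊤)
  | 0 => (1 : Γ(X, ⊤))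
  | k + 1 => mul hL (tPow t k) t

lemma tPow_coeff {d : ℕ} (t : Γ(CohB1.tensorPow L d, ⊤)) {U : X.Opens} {e : Γ(L, U)} (he : GenOn L e)
    {f : Γ(X, U)} (hf : f • pS e d = res _ le_top t) :
    ∀ k : ℕ, f ^ k • pS e (d * k) = res _ le_top (tPow hL t k)
  | 0 => by
    rw [pow_zero, one_smul]
    exact (map_one (X.presheaf.map (homOfLE (le_top : U ≤ ⊤)).op).hom).symm
  | k + 1 => by
    refine Eq.trans ?_ (mul_res hL le_top (tPow hL t k) t).symm
    rw [← tPow_coeff t he hf k, ← hf, mul_coeff hL he, pow_succ]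
    rfl

lemma tPow_genOn {d : ℕ} (t : Γ(CohB1.tensorPow L d, ⊤)) {V : X.Opens}
    (hV : V ≤ genSet (tensorPow_isInvertible hL d) t) :
    ∀ k : ℕ, GenOn (CohB1.tensorPow L (d * k)) (res _ (le_top : V ≤ ⊤) (tPow hL t k))
  | 0 => (one_genOn (X := X) ⊤).res le_top
  | k + 1 => by
    change GenOn _ (res _ _ (mul hL (tPow hL t k) t))
    rw [mul_res]
    refine mul_genOn hL (tPow_genOn t hV k) ?_
    have := (TwistLib.genSet_genOn (tensorPow_isInvertible hL d) t).res hV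
    rwa [res_res] at this

/-- sections over the locus of `t` extend after multiplying by a power of `t` -/
theorem exists_extend [CompactSpace X] [QuasiSeparatedSpace X] {d r : ℕ}
    (t : Γ(CohB1.tensorPow L d, ⊤))
    (s : Γ(CohB1.tensorPow L r, genSet (tensorPow_isInvertible hL d) t)) :
    ∃ N : ℕ, ∀ N', N ≤ N' → ∃ u : Γ(CohB1.tensorPow L (r + d * N'), ⊤),
      res _ le_top u = mul hL s (res _ le_top (tPow hL t N')) := by
  classical
  let V := genSet (tensorPow_isInvertible hL d) t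
  have hloc : ∀ x : X, ∃ (U : X.Opens) (e : Γ(L, U)), x ∈ U ∧ GenOn L e ∧ IsAffineOpen U := by
    intro x
    obtain ⟨U, e, hx, he⟩ := TwistLib.exists_genOn hL x
    obtain ⟨W, hW, hxW, hWU⟩ := exists_isAffineOpen_mem_and_subset hx
    exact ⟨W, res L hWU e, hxW, he.res hWU, hW⟩
  choose U₀ e₀ hmem hgen haff using hloc
  obtain ⟨S, hS⟩ := isCompact_univ.elim_finite_subcover (fun x => (U₀ x : Set X))
    (fun x => (U₀ x).2) fun x _ => Set.mem_iUnion.mpr ⟨x, hmem x⟩
  choose f hf using fun i : S => exists_coeff t (pS_genOn (hgen i.1) d)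
  have hB : ∀ i : S, V ⊓ U₀ i.1 = X.basicOpen (f i) := fun i =>
    mem_genSet_coeff (tensorPow_isInvertible hL d) t (pS_genOn (hgen i.1) d) (hf i)
  have hBV : ∀ i : S, X.basicOpen (f i) ≤ V := fun i => (hB i) ▸ inf_le_left
  have hBU : ∀ i : S, X.basicOpen (f i) ≤ U₀ i.1 := fun i => Scheme.basicOpen_le _ _
  choose a ha using fun i : S =>
    ((pS_genOn (hgen i.1) r) (X.basicOpen (f i)) (hBU i)).2 (res _ (hBV i) s)
  dsimp only at ha
  choose n b hb using fun i : S => exists_eq_pow_mul_of_isCompact_of_isQuasiSeparated X (U₀ i.1)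
    (haff i.1).isCompact (haff i.1).isQuasiSeparated (f i) (a i)
  let N₀ := Finset.univ.sum n
  have hn : ∀ i, n i ≤ N₀ := fun i => Finset.single_le_sum (fun j _ => Nat.zero_le _) (Finset.mem_univ i)
  let F : S → ℕ → ∀ i : S, Γ(X, U₀ i.1) := fun _ N i => f i ^ (N - n i) * b i
  -- value on the locus
  have hval : ∀ (i : S) (N : ℕ), n i ≤ N → ∀ (W : X.Opens) (hW : W ≤ X.basicOpen (f i)),
      rX (hW.trans (hBU i)) (F i N i) • res _ (hW.trans (hBU i)) (pS (e₀ i.1) (r + d * N)) =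
        res _ (hW.trans (hBV i)) (mul hL s (res _ le_top (tPow hL t N))) := by
    intro i N hN W hW
    have e1 : rX (hBU i) (b i) = rX (hBU i) (f i) ^ n i * a i := hb i
    have e2 : rX (hW.trans (hBU i)) (F i N i) =
        rX hW (a i) * rX (hW.trans (hBU i)) (f i) ^ N := by
      have e3 := congrArg (rX hW) e1
      simp only [map_mul, map_pow, rX, ← CommRingCat.comp_apply, ← Functor.map_comp, ← op_comp,
        homOfLE_comp] at e3
      simp only [F, map_mul, map_pow, rX]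
      rw [e3, ← mul_assoc, ← pow_add, Nat.sub_add_cancel hN, mul_comm]
    rw [mul_res, res_res, e2, pS_res, ← mul_coeff hL ((hgen i.1).res (hW.trans (hBU i))), ← pS_res, ← pS_res]
    congr 1
    · have := congrArg (res _ hW) (ha i)
      rw [res_smul, res_res, res_res] at this
      exact this
    · have := congrArg (res _ (hW.trans (hBU i))) (tPow_coeff hL t (hgen i.1) (hf i) N)
      rw [res_smul, res_res, map_pow] at this
      exact this
  -- the obstruction
  have hK : ∀ p : S × S, ∃ K : ℕ, ∀ N, N₀ + K ≤ N →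
      res _ (inf_le_left : U₀ p.1.1 ⊓ U₀ p.2.1 ≤ U₀ p.1.1)
          (F p.1 N p.1 • pS (e₀ p.1.1) (r + d * N)) =
        res _ (inf_le_right : U₀ p.1.1 ⊓ U₀ p.2.1 ≤ U₀ p.2.1)
          (F p.2 N p.2 • pS (e₀ p.2.1) (r + d * N)) := by
    rintro ⟨i, j⟩
    let W := U₀ i.1 ⊓ U₀ j.1
    have hi : W ≤ U₀ i.1 := inf_le_left
    have hj : W ≤ U₀ j.1 := inf_le_right
    obtain ⟨c, hc⟩ := ((hgen i.1) W hi).2 (res L hj (e₀ j.1))
    dsimp only at hc
    have hcn : ∀ m, res _ hj (pS (e₀ j.1) m) = c ^ m • res _ hi (pS (e₀ i.1) m) := fun m => by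
      rw [pS_res, pS_res, ← hc, pS_smul]
    have hff : rX hi (f i) = rX hj (f j) * c ^ d := by
      refine ((pS_genOn (hgen i.1) d) W hi).1 ?_
      dsimp only
      rw [mul_smul, ← hcn, ← res_smul, ← res_smul, hf, hf, res_res, res_res]
    let h : ℕ → Γ(X, W) := fun N => rX hi (F i N i) - rX hj (F j N j) * c ^ (r + d * N)
    have hstep : ∀ k, h (N₀ + k) = rX hi (f i) ^ k * h N₀ := by
      intro k
      have t1 : ∀ l : S, F l (N₀ + k) l = f l ^ k * F l N₀ l := fun l => by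
        simp only [F]
        rw [Nat.sub_add_comm (hn l), pow_add]
        ring
      simp only [h, t1, map_mul, map_pow, rX]
      have hff' : (X.presheaf.map (homOfLE hi).op) (f i) = (X.presheaf.map (homOfLE hj).op) (f j) * c ^ d := hff
      rw [hff', show r + d * (N₀ + k) = (r + d * N₀) + d * k by ring]
      ring
    have h0 : X.presheaf.map (homOfLE (Scheme.basicOpen_le _ (rX hi (f i)))).op (h N₀) = 0 := by
      have hWi : X.basicOpen (rX hi (f i)) ≤ X.basicOpen (f i) := by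
        rw [rX, Scheme.basicOpen_res]; exact inf_le_right
      have hWj : X.basicOpen (rX hi (f i)) ≤ X.basicOpen (f j) := by
        rw [← hB j]
        exact le_inf (hWi.trans (hBV i)) ((Scheme.basicOpen_le _ _).trans hj)
      refine ((pS_genOn (hgen i.1) (r + d * N₀)) _ ((Scheme.basicOpen_le _ _).trans hi)).1 ?_
      dsimp only
      rw [zero_smul]
      simp only [h, map_sub, map_mul, sub_smul, sub_eq_zero, mul_smul]
      have hcB := congrArg (res _ (Scheme.basicOpen_le _ (rX hi (f i)))) (hcn (r + d * N₀))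
      rw [res_res, res_smul, res_res] at hcB
      rw [← hcB]
      simp only [rX, ← CommRingCat.comp_apply, ← Functor.map_comp, ← op_comp, homOfLE_comp]
      refine (hval i N₀ (hn i) _ hWi).trans ?_
      exact (hval j N₀ (hn j) _ hWj).symm
    obtain ⟨K, hK⟩ := exists_pow_mul_eq_zero_of_res_basicOpen_eq_zero_of_isCompact X
      (QuasiSeparatedSpace.inter_isCompact _ _ (U₀ i.1).2 (haff i.1).isCompact (U₀ j.1).2 (haff j.1).isCompact)
      (h N₀) (rX hi (f i)) h0
    refine ⟨K, fun N hN => ?_⟩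
    have hz : h N = 0 := by
      obtain ⟨k, rfl⟩ := Nat.exists_eq_add_of_le hN
      rw [Nat.add_assoc, hstep, pow_add, mul_assoc (rX hi (f i) ^ K), mul_comm (rX hi (f i) ^ k),
        ← mul_assoc, hK, zero_mul]
    dsimp only
    rw [res_smul, res_smul, hcn, smul_smul]
    exact congrArg (· • _) (sub_eq_zero.mp hz)
  choose K hK using hK
  let Kt := Finset.univ.sum K
  have hKt : ∀ p, K p ≤ Kt := fun p => Finset.single_le_sum (fun q _ => Nat.zero_le _) (Finset.mem_univ p)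
  refine ⟨N₀ + Kt, fun N hN => ?_⟩
  have hcov : (⊤ : X.Opens) ≤ ⨆ i : S, U₀ i.1 := fun x _ => by
    obtain ⟨i, hi, hx⟩ := Set.mem_iUnion₂.mp (hS (Set.mem_univ x))
    exact Opens.mem_iSup.mpr ⟨⟨i, hi⟩, hx⟩
  obtain ⟨u, hu, -⟩ := TopCat.Sheaf.existsUnique_gluing'
    (F := ⟨(CohB1.tensorPow L (r + d * N)).presheaf, (CohB1.tensorPow L (r + d * N)).isSheaf⟩)
    (fun i : S => U₀ i.1) ⊤ (fun i => homOfLE le_top) hcov
    (fun i => F i N i • pS (e₀ i.1) (r + d * N)) (fun i j => hK (i, j) N ((Nat.add_le_add_left (hKt (i, j)) N₀).trans hN))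
  refine ⟨u, TwistLib.mod_ext _ fun x hx => ?_⟩
  obtain ⟨i, hi, hxi⟩ := Set.mem_iUnion₂.mp (hS (Set.mem_univ x))
  have hxB : x ∈ X.basicOpen (f ⟨i, hi⟩) := (hB ⟨i, hi⟩) ▸ ⟨hx, hxi⟩
  rw [← germ_res _ (hBV ⟨i, hi⟩) (res _ le_top u) hxB, ← germ_res _ (hBV ⟨i, hi⟩) (mul hL _ _) hxB,
    res_res]
  congr 1
  refine Eq.trans ?_ (hval ⟨i, hi⟩ N ((hn _).trans (le_trans (Nat.le_add_right _ _) hN)) _ le_rfl)
  have h1 := congrArg (res _ (hBU ⟨i, hi⟩)) (show res _ (le_top : U₀ i ≤ ⊤) u = _ from hu ⟨i, hi⟩)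
  rw [res_res, res_smul] at h1
  exact h1

end AmpleThLib

end
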