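import Groth.Agent.AmpleLib.Powers
import Groth.Agent.TwistLib.HomGlue
import Groth.Agent.TwistLib.PullGen
import Groth.Agent.TwistLib.Basic

/-!
# Powers and products of sections of an invertible module
-/

set_option autoImplicit false
universe u

open CategoryTheory CategoryTheory.Limits AlgebraicGeometry TopologicalSpace Opposite
open AmpleLib

noncomputable section

namespace AmpleThLib

variable {X : Scheme.{u}} {L : X.Modules}

/-- powers of a section -/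
def pS {W : X.Opens} (σ : Γ(L, W)) : ∀ n : ℕ, Γ(CohB1.tensorPow L n, W)
  | 0 => (1 : Γ(X, W))
  | n + 1 => shT (pS σ n) σ

lemma pS_res {V W : X.Opens} (h : V ≤ W) (σ : Γ(L, W)) : ∀ n : ℕ,
    res (CohB1.tensorPow L n) h (pS σ n) = pS (res L h σ) n
  | 0 => map_one (X.presheaf.map (homOfLE h).op).hom
  | n + 1 => (shT_res h (pS σ n) σ).trans (congrArg (shT · _) (pS_res h σ n))

lemma pS_smul {W : X.Opens} (r : Γ(X, W)) (σ : Γ(L, W)) : ∀ n : ℕ,
    pS (r • σ) n = r ^ n • pS σ n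
  | 0 => by rw [pow_zero, one_smul]; rfl
  | n + 1 => by
    change shT (pS (r • σ) n) (r • σ) = r ^ (n + 1) • shT (pS σ n) σ
    rw [pS_smul r σ n, shT_smul, pow_succ]

lemma pS_genAt {W : X.Opens} {σ : Γ(L, W)} {x : X} {hx : x ∈ W} (h : GenAt L σ hx) : ∀ n : ℕ,
    GenAt (CohB1.tensorPow L n) (pS σ n) hx
  | 0 => (one_genOn W).genAt hx
  | n + 1 => (pS_genAt h n).tensor h

lemma pS_genOn {W : X.Opens} {σ : Γ(L, W)} (h : GenOn L σ) (n : ℕ) :
    GenOn (CohB1.tensorPow L n) (pS σ n) :=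
  TwistLib.genOn_of_genAt fun _ hx => pS_genAt (h.genAt hx) n

lemma shT_genOn {M N : X.Modules} {W : X.Opens} {m : Γ(M, W)} {n : Γ(N, W)} (hm : GenOn M m)
    (hn : GenOn N n) : GenOn (CohB1.tensorMod M N) (shT m n) :=
  TwistLib.genOn_of_genAt fun _ hx => (hm.genAt hx).tensor (hn.genAt hx)

/-- the local generators of `L` -/
abbrev Gens (L : X.Modules) : Type u := (U : X.Opens) × {e : Γ(L, U) // GenOn L e}

lemma gens_cover (hL : PicF.IsInvertible L) (x : X) : ∃ a : Gens L, x ∈ a.1 := by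
  obtain ⟨U, e, hx, he⟩ := TwistLib.exists_genOn hL x
  exact ⟨⟨U, e, he⟩, hx⟩

theorem tensorPow_isInvertible (hL : PicF.IsInvertible L) (n : ℕ) :
    PicF.IsInvertible (CohB1.tensorPow L n) := fun x => by
  obtain ⟨U, e, hx, he⟩ := TwistLib.exists_genOn hL x
  exact ⟨U, hx, TwistLib.nonempty_iso_of_genOn (pS e n) (pS_genOn he n)⟩

/-- morphisms agreeing on generators are equal -/
theorem hom_ext_gens {M N : X.Modules} {ι : Type*} (D : ι → X.Opens) (e : ∀ a, Γ(M, D a))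
    (hcov : ∀ x : X, ∃ a, x ∈ D a) (he : ∀ a, GenOn M (e a)) {φ ψ : M ⟶ N}
    (h : ∀ a, φ.app (D a) (e a) = ψ.app (D a) (e a)) : φ = ψ := by
  apply Scheme.Modules.hom_ext
  intro W
  refine ConcreteCategory.hom_ext _ _ fun t => TwistLib.mod_ext N fun x hx => ?_
  obtain ⟨a, ha⟩ := hcov x
  obtain ⟨c, hc⟩ := (he a (W ⊓ D a) inf_le_right).2 (res M inf_le_left t)
  dsimp only at hc
  rw [← germ_res N (inf_le_left : W ⊓ D a ≤ W) (φ.app W t) (x := x) ⟨hx, ha⟩,
    ← germ_res N (inf_le_left : W ⊓ D a ≤ W) (ψ.app W t) (x := x) ⟨hx, ha⟩]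
  congr 1
  change N.presheaf.map _ _ = N.presheaf.map _ _
  rw [← QCohLib.app_map φ, ← QCohLib.app_map ψ]
  change φ.app _ (res M _ t) = ψ.app _ (res M _ t)
  rw [← hc, QCohLib.app_smul, QCohLib.app_smul]
  refine congrArg (c • ·) ?_
  change φ.app _ (M.presheaf.map _ _) = ψ.app _ (M.presheaf.map _ _)
  rw [QCohLib.app_map φ, QCohLib.app_map ψ, h a]

/-- isomorphism of modules with matching generators -/
theorem exists_iso_gens {M N : X.Modules} {ι : Type*} (D : ι → X.Opens) (e : ∀ a, Γ(M, D a))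
    (f : ∀ a, Γ(N, D a)) (hcov : ∀ x : X, ∃ a, x ∈ D a) (he : ∀ a, GenOn M (e a))
    (hf : ∀ a, GenOn N (f a))
    (hc : ∀ (a b : ι) (V : X.Opens) (ha : V ≤ D a) (hb : V ≤ D b), ∃ c : Γ(X, V),
      c • res M ha (e a) = res M hb (e b) ∧ c • res N ha (f a) = res N hb (f b)) :
    ∃ φ : M ≅ N, ∀ a, φ.hom.app (D a) (e a) = f a := by
  obtain ⟨β, hβ⟩ := TwistLib.exists_hom_of_gens D e f hcov he fun a b V ha hb c h => by
    obtain ⟨c', h1, h2⟩ := hc a b V ha hb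
    rwa [(he a V ha).1 (h.trans h1.symm)]
  obtain ⟨γ, hγ⟩ := TwistLib.exists_hom_of_gens D f e hcov hf fun a b V ha hb c h => by
    obtain ⟨c', h1, h2⟩ := hc a b V ha hb
    rwa [(hf a V ha).1 (h.trans h2.symm)]
  refine ⟨⟨β, γ, hom_ext_gens D e hcov he fun a => ?_, hom_ext_gens D f hcov hf fun a => ?_⟩, hβ⟩
  · change γ.app _ (β.app _ (e a)) = e a
    rw [hβ, hγ]
  · change β.app _ (γ.app _ (f a)) = f a
    rw [hγ, hβ]

theorem exists_mulIso (hL : PicF.IsInvertible L) (m n : ℕ) :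
    ∃ φ : CohB1.tensorMod (CohB1.tensorPow L m) (CohB1.tensorPow L n) ≅ CohB1.tensorPow L (m + n),
      ∀ a : Gens L, φ.hom.app a.1 (shT (pS a.2.1 m) (pS a.2.1 n)) = pS a.2.1 (m + n) := by
  refine exists_iso_gens (fun a : Gens L => a.1) _ _ (gens_cover hL)
    (fun a => shT_genOn (pS_genOn a.2.2 m) (pS_genOn a.2.2 n)) (fun a => pS_genOn a.2.2 _) ?_
  intro a b V ha hb
  obtain ⟨c, hc⟩ := (a.2.2 V ha).2 (res L hb b.2.1)
  dsimp only at hc
  refine ⟨c ^ (m + n), ?_, ?_⟩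
  · rw [shT_res, shT_res, pS_res, pS_res, pS_res, pS_res, ← hc, pS_smul, pS_smul, shT_smul, pow_add]
  · rw [pS_res, pS_res, ← hc, pS_smul]

/-- `L^m ⊗ L^n ≅ L^(m+n)` -/
def mulIso (hL : PicF.IsInvertible L) (m n : ℕ) :
    CohB1.tensorMod (CohB1.tensorPow L m) (CohB1.tensorPow L n) ≅ CohB1.tensorPow L (m + n) :=
  (exists_mulIso hL m n).choose

/-- products of sections of powers -/
def mul (hL : PicF.IsInvertible L) {m n : ℕ} {W : X.Opens} (σ : Γ(CohB1.tensorPow L m, W))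
    (τ : Γ(CohB1.tensorPow L n, W)) : Γ(CohB1.tensorPow L (m + n), W) :=
  (mulIso hL m n).hom.app W (shT σ τ)

variable (hL : PicF.IsInvertible L)

lemma mul_res {m n : ℕ} {V W : X.Opens} (h : V ≤ W) (σ : Γ(CohB1.tensorPow L m, W))
    (τ : Γ(CohB1.tensorPow L n, W)) : res _ h (mul hL σ τ) = mul hL (res _ h σ) (res _ h τ) := by
  refine (QCohLib.app_map _ (homOfLE h) _).symm.trans ?_
  exact congrArg ((mulIso hL m n).hom.app V) (shT_res h σ τ)

lemma mul_smul_smul {m n : ℕ} {W : X.Opens} (r s : Γ(X, W)) (σ : Γ(CohB1.tensorPow L m, W))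
    (τ : Γ(CohB1.tensorPow L n, W)) : mul hL (r • σ) (s • τ) = (r * s) • mul hL σ τ := by
  refine (congrArg ((mulIso hL m n).hom.app W) (shT_smul r s σ τ)).trans ?_
  exact QCohLib.app_smul _ W _ _

lemma mul_pS {U : X.Opens} {e : Γ(L, U)} (he : GenOn L e) (m n : ℕ) :
    mul hL (pS e m) (pS e n) = pS e (m + n) :=
  (exists_mulIso hL m n).choose_spec ⟨U, e, he⟩

lemma mul_coeff {U : X.Opens} {e : Γ(L, U)} (he : GenOn L e) {m n : ℕ} (r s : Γ(X, U)) :
    mul hL (r • pS e m) (s • pS e n) = (r * s) • pS e (m + n) := by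
  rw [mul_smul_smul, mul_pS hL he]

include hL in
theorem exists_powIso (m k : ℕ) :
    ∃ φ : CohB1.tensorPow (CohB1.tensorPow L m) k ≅ CohB1.tensorPow L (m * k),
      ∀ a : Gens L, φ.hom.app a.1 (pS (pS a.2.1 m) k) = pS a.2.1 (m * k) := by
  refine exists_iso_gens (fun a : Gens L => a.1) _ _ (gens_cover hL)
    (fun a => pS_genOn (pS_genOn a.2.2 m) k) (fun a => pS_genOn a.2.2 _) ?_
  intro a b V ha hb
  obtain ⟨c, hc⟩ := (a.2.2 V ha).2 (res L hb b.2.1)
  dsimp only at hc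
  refine ⟨c ^ (m * k), ?_, ?_⟩
  · rw [pS_res, pS_res, pS_res, pS_res, ← hc, pS_smul, pS_smul, pow_mul]
  · rw [pS_res, pS_res, ← hc, pS_smul]

/-- membership in the locus through a local coefficient -/
lemma mem_genSet_coeff {M : X.Modules} (hM : PicF.IsInvertible M) (σ : Γ(M, ⊤)) {U : X.Opens}
    {g : Γ(M, U)} (hg : GenOn M g) {r : Γ(X, U)} (hr : r • g = res M le_top σ) :
    TwistLib.genSet hM σ ⊓ U = X.basicOpen r := by
  ext y
  constructor
  · rintro ⟨hy, hyU⟩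
    have h1 : GenAt M σ (show y ∈ (⊤ : X.Opens) from trivial) := hy
    rw [← genAt_res (le_top : U ≤ ⊤) σ hyU, ← hr] at h1
    exact (genAt_smul_iff r g hyU (hg.genAt hyU)).mp h1
  · intro hy
    have hyU : y ∈ U := Scheme.basicOpen_le _ _ hy
    refine ⟨?_, hyU⟩
    have h1 := (genAt_smul_iff r g hyU (hg.genAt hyU)).mpr hy
    rw [hr, genAt_res] at h1
    exact h1

lemma exists_coeff {M : X.Modules} (σ : Γ(M, ⊤)) {U : X.Opens} {g : Γ(M, U)} (hg : GenOn M g) :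
    ∃ r : Γ(X, U), r • g = res M le_top σ := by
  obtain ⟨r, hr⟩ := (hg U le_rfl).2 (res M le_top σ)
  dsimp only at hr
  rw [res_refl] at hr
  exact ⟨r, hr⟩

end AmpleThLib

end
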