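import Groth.Agent.AmpleThLib.ToPn
import Groth.Agent.AmpleLib.Ample
import Groth.Prelude.Def_LCI2

/-!
# Immersions into `P^m_Y` from sections, and conversely
-/

set_option autoImplicit false
universe u

open CategoryTheory CategoryTheory.Limits AlgebraicGeometry TopologicalSpace Opposite
open ChowLib RelProjLib AmpleLib
open TwistLib (genSet)

noncomputable section

namespace AmpleThLib

variable {X Y : Scheme.{u}}

/-- the `k`-th standard open of `P^m_Y` -/
abbrev Pk {m : ℕ} (Y : Scheme.{u}) (k : Fin (m + 1)) : (CohB1.ProjSpaceOver m Y).Opens :=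
  toPZ m Y ⁻¹ᵁ Dplus k

lemma isAffineOpen_Pk {m : ℕ} (Y : Scheme.{u}) [IsAffine Y] (k : Fin (m + 1)) : IsAffineOpen (Pk Y k) := by
  have : IsAffineHom (specULiftZIsTerminal.from Y) := inferInstance
  have : IsAffineHom (toPZ m Y) :=
    MorphismProperty.pullback_fst (P := @IsAffineHom) _ _ this
  exact (isAffineOpen_Dplus k).preimage (toPZ m Y)

theorem isImmersion_of_local {P : Scheme.{u}} (i : X ⟶ P) {ι : Type*} (O : ι → P.Opens)
    (hcov : ∀ x : X, ∃ a, i x ∈ O a) (h : ∀ a, IsClosedImmersion (i ∣_ O a)) : IsImmersion i := by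
  let W : P.Opens := ⨆ a, O a
  have hW : i ⁻¹ᵁ W = ⊤ := eq_top_iff.mpr fun x _ => by
    obtain ⟨a, ha⟩ := hcov x
    exact Opens.mem_iSup.mpr ⟨a, ha⟩
  have hc : IsClosedImmersion (i ∣_ W) := by
    refine IsZariskiLocalAtTarget.of_iSup_eq_top (P := @IsClosedImmersion) (fun a => W.ι ⁻¹ᵁ O a) ?_ fun a => ?_
    · rw [← Scheme.Hom.preimage_iSup]
      exact eq_top_iff.mpr fun x _ => x.2
    · refine (MorphismProperty.arrow_mk_iso_iff @IsClosedImmersion (morphismRestrictRestrict i W _)).mpr ?_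
      have e : W.ι ''ᵁ (W.ι ⁻¹ᵁ O a) = O a := by
        rw [Scheme.Hom.image_preimage_eq_opensRange_inf, Scheme.Opens.opensRange_ι]
        exact inf_eq_right.mpr (le_iSup O a)
      rw [e]
      exact h a
  have e : (i ⁻¹ᵁ W).ι ≫ i = (i ∣_ W) ≫ W.ι := (morphismRestrict_ι i W).symm
  have hiso : IsIso (i ⁻¹ᵁ W).ι := by
    rw [hW]
    exact (X.topIso).isIso_hom
  have : i = inv (i ⁻¹ᵁ W).ι ≫ (i ∣_ W) ≫ W.ι := by rw [← e, IsIso.inv_hom_id_assoc]
  rw [this]
  infer_instance

lemma surjective_appLE_congr {P : Scheme.{u}} (i : X ⟶ P) {U U' : P.Opens} {V V' : X.Opens} (hU : U = U')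
    (hV : V = V') (h : V ≤ i ⁻¹ᵁ U) (h' : V' ≤ i ⁻¹ᵁ U') (hs : Function.Surjective (i.appLE U V h)) :
    Function.Surjective (i.appLE U' V' h') := by
  subst hU hV; exact hs

theorem exists_immersion [IsAffine Y] (q : X ⟶ Y) {M : X.Modules} (hM : PicF.IsInvertible M) {m : ℕ}
    (v : Fin (m + 1) → Γ(M, ⊤)) (K : Set (Fin (m + 1)))
    (hcov : ∀ x : X, ∃ k ∈ K, x ∈ genSet hM (v k))
    (haff : ∀ k ∈ K, IsAffineOpen (genSet hM (v k)))
    (hsurj : ∀ k ∈ K, Subring.closure (Set.range (q.appLE ⊤ (genSet hM (v k)) le_top) ∪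
      {c | ∃ l, c • res M (le_top : genSet hM (v k) ≤ ⊤) (v k) = res M le_top (v l)}) = ⊤) :
    RelAmple.IsRelVeryAmplePn q M := by
  obtain ⟨r, τ, hpre, hcoef⟩ := exists_toPZ hM v (fun x => (hcov x).imp fun k hk => hk.2)
  let i : X ⟶ CohB1.ProjSpaceOver m Y := pullback.lift r q (specULiftZIsTerminal.hom_ext _ _)
  have hfst : i ≫ toPZ m Y = r := pullback.lift_fst _ _ _
  have hsnd : i ≫ CohB1.ProjSpaceOver.toBase m Y = q := pullback.lift_snd _ _ _
  refine ⟨m, i, ?_, hsnd, ?_⟩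
  · refine isImmersion_of_local i (fun k : K => Pk Y (k : Fin (m + 1))) (fun x => ?_) (fun ⟨k, hk⟩ => ?_)
    · obtain ⟨k, hk, hx⟩ := hcov x
      refine ⟨⟨k, hk⟩, ?_⟩
      change (i ≫ toPZ m Y) x ∈ Dplus k
      rw [hfst]
      exact (hpre k).ge hx
    · have hP : i ⁻¹ᵁ Pk Y k = genSet hM (v k) := by
        rw [← hpre k, ← hfst]; rfl
      have : IsAffine (i ⁻¹ᵁ Pk Y k).toScheme := hP ▸ haff k hk
      have : IsAffine (Pk Y k).toScheme := isAffineOpen_Pk Y k
      refine IsClosedImmersion.of_surjective_of_isAffine _ ?_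
      rw [Scheme.Hom.appTop, morphismRestrict_app']
      refine surjective_appLE_congr i (Pk Y k).ι_image_top.symm (hP.symm.trans (Scheme.Opens.ι_image_top _).symm) hP.ge _ ?_
      have hsur : Function.Surjective (i.appLE (Pk Y k) (genSet hM (v k)) hP.ge) := by
        intro a
        suffices h : a ∈ (i.appLE (Pk Y k) (genSet hM (v k)) hP.ge).hom.range from h
        refine (show Subring.closure _ ≤ _ from Subring.closure_le.mpr ?_) ((hsurj k hk).ge (Subring.mem_top a))
        rintro _ (⟨y, rfl⟩ | ⟨l, hl⟩)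
        · refine ⟨(CohB1.ProjSpaceOver.toBase m Y).appLE ⊤ (Pk Y k) le_top y, ?_⟩
          rw [← CommRingCat.comp_apply, Scheme.Hom.appLE_comp_appLE]
          simp only [hsnd]
        · refine ⟨(toPZ m Y).app (Dplus k) (cj k l), ?_⟩
          rw [← CommRingCat.comp_apply, Scheme.Hom.app_eq_appLE, Scheme.Hom.appLE_comp_appLE]
          simp only [hfst]
          refine (TwistLib.genSet_genOn hM (v k) _ le_rfl).1 ?_
          dsimp only
          rw [res_res, hl]
          have h1 := congrArg (res M (hpre k).ge) (hcoef k l)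
          rw [res_smul, res_res, res_res] at h1
          refine Eq.trans ?_ h1
          congr 1
      exact hsur
  · exact ⟨τ.symm ≪≫ ((Scheme.Modules.pullbackCongr hfst).app _).symm ≪≫
      ((Scheme.Modules.pullbackComp i (toPZ m Y)).app _).symm⟩

end AmpleThLib

end
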