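import Groth.Agent.AmpleThLib.CoordApp
import Groth.Agent.AmpleThLib.Locus
import Groth.Agent.TwistLib.ProjSymUP
import Groth.Agent.TwistLib.ProjSymExt
import Mathlib.LinearAlgebra.SymmetricAlgebra.Basis

/-!
# The morphism to `P^m` given by generating sections
-/

set_option autoImplicit false
universe u

open CategoryTheory CategoryTheory.Limits AlgebraicGeometry TopologicalSpace Opposite
open HomogeneousLocalization ChowLib RelProjLib AmpleLib
open MvPolynomial (X)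
open TwistLib (genSet)

noncomputable section

namespace AmpleThLib

variable {Y : Scheme.{u}} {M : Y.Modules}

theorem exists_toPZ (hM : PicF.IsInvertible M) {m : ℕ} (v : Fin (m + 1) → Γ(M, ⊤))
    (hgen : ∀ y : Y, ∃ k, y ∈ genSet hM (v k)) :
    ∃ (r : Y ⟶ PZ.{u} m) (_ : (Scheme.Modules.pullback r).obj (Twist.twistProjSpace m Z.{u} 1) ≅ M),
      (∀ k, r ⁻¹ᵁ Dplus k = genSet hM (v k)) ∧
      ∀ k j, (show Γ(Y, r ⁻¹ᵁ Dplus k) from r.app (Dplus k) (cj k j)) •
        res M (le_top : r ⁻¹ᵁ Dplus k ≤ ⊤) (v k) = res M (le_top : r ⁻¹ᵁ Dplus k ≤ ⊤) (v j) := by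
  classical
  let b := Pi.basisFun Z.{u} (Fin (m + 1))
  let ι : (Fin (m + 1) → Z.{u}) →ₗ[Z.{u}] MvPolynomial (Fin (m + 1)) Z.{u} :=
    Module.Basis.constr b Z.{u} MvPolynomial.X
  have hι : ∀ c, ι c ∈ gr.{u} m 1 := by
    intro c
    rw [Module.Basis.constr_apply_fintype]
    exact sum_mem fun i _ => Submodule.smul_mem _ _ (MvPolynomial.isHomogeneous_X _ i)
  have hsym : IsSymmetricAlgebra ι := SymmetricAlgebra.IsSymmetricAlgebra.mvPolynomial (Fin (m + 1)) b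
  let q0 : Y ⟶ Spec (CommRingCat.of Z.{u}) := specULiftZIsTerminal.from Y
  let ρ := ProjUP.toGlobal q0
  let v' : (Fin (m + 1) → Z.{u}) →+ Γ(M, ⊤) :=
    AddMonoidHom.mk' (fun c => ∑ i, ρ (c i) • v i)
      (fun c c' => by simp only [Pi.add_apply, map_add, add_smul, Finset.sum_add_distrib])
  have hv : ∀ (a : Z.{u}) c, v' (a • c) = ρ a • v' c := fun a c => by
    simp only [v', AddMonoidHom.mk'_apply, Finset.smul_sum]
    exact Finset.sum_congr rfl fun i _ => by rw [Pi.smul_apply, smul_eq_mul, map_mul, mul_smul]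
  have hb : ∀ k, v' (b k) = v k := fun k => by
    simp only [v', b, AddMonoidHom.mk'_apply, Pi.basisFun_apply]
    rw [Finset.sum_eq_single k (fun i _ hi => by rw [Pi.single_eq_of_ne hi, map_zero, zero_smul])
      (fun h => absurd (Finset.mem_univ k) h), Pi.single_eq_same, map_one, one_smul]
  have hbι : ∀ k, ι (b k) = X k := fun k => b.constr_basis _ _ k
  obtain ⟨r, -, τ, hτ⟩ := TwistLib.SymUP.exists_r_τ (gr.{u} m) ι hι hsym q0 M hM v' hv fun y => by
    obtain ⟨k, hk⟩ := hgen y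
    exact ⟨b k, show y ∈ genSet hM (v' (b k)) by rw [hb]; exact hk⟩
  let glob : Fin (m + 1) → Γ(Twist.twist (gr.{u} m) ((1 : ℕ) : ℤ), ⊤) := fun k =>
    Twist.globalOf (gr.{u} m) ⟨X k, X_mem k⟩
  have hτ' : ∀ k, τ.hom.app ⊤ (KFlatLib.puSec r (glob k)) = v k := fun k => by
    refine Eq.trans ?_ ((hτ (b k)).trans (hb k))
    refine congrArg (fun t : gr.{u} m 1 => τ.hom.app ⊤ (KFlatLib.puSec r (U := ⊤)
      (show Γ(Twist.twist (gr.{u} m) ((1 : ℕ) : ℤ), ⊤) from Twist.globalOf (gr.{u} m) t))) ?_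
    exact Subtype.ext (hbι k).symm
  refine ⟨r, τ, fun k => ?_, fun k j => ?_⟩
  · ext y
    change r y ∈ Proj.basicOpen (gr.{u} m) (X k) ↔ GenAt M (v k) _
    rw [← hbι k, ← TwistLib.SymUP.genAt_pull_iff (gr.{u} m) ι hι hsym r (b k) y, ← hb k, ← hτ (b k)]
    exact (TwistLib.genAt_app_iso τ _ _).symm
  · have hc := TwistLib.frac_smul_globalOf (gr.{u} m) (X_mem k) (X_mem j)
    have hfr : TwistLib.frac (gr.{u} m) (X_mem k) (X_mem j) = coordRing k j := rfl
    rw [hfr] at hc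
    have h1 := congrArg (fun t => τ.hom.app (r ⁻¹ᵁ Dplus k) (KFlatLib.puSec r t)) hc
    have h2 : ∀ i, τ.hom.app (r ⁻¹ᵁ Dplus k) (KFlatLib.puSec r
        (res (Twist.twist (gr.{u} m) ((1 : ℕ) : ℤ)) (le_top : Dplus k ≤ ⊤) (glob i))) =
          res M (le_top : r ⁻¹ᵁ Dplus k ≤ ⊤) (v i) := fun i => by
      rw [← hτ' i, TwistLib.puSec_res]
      exact NatTrans.naturality_apply τ.hom.mapPresheaf (homOfLE (le_top : r ⁻¹ᵁ Dplus k ≤ ⊤)).op _
    have e1 := congrArg (τ.hom.app (r ⁻¹ᵁ Dplus k)) (TwistLib.puSec_smul r (cj k j)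
      (res (Twist.twist (gr.{u} m) ((1 : ℕ) : ℤ)) (le_top : Dplus k ≤ ⊤) (glob k)))
    have h3 := (Scheme.Modules.Hom.app_smul τ.hom _ _).symm.trans (e1.symm.trans h1)
    exact ((congrArg (_ • ·) (h2 k)).symm.trans h3).trans (h2 j)

end AmpleThLib

end
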