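import Groth.Agent.AmpleThLib.VeryAmple
import Groth.Agent.ProjClosedLib.Main

/-!
# Morphisms to `Proj R[x]`, closed subschemes
-/

set_option autoImplicit false
universe u

open CategoryTheory CategoryTheory.Limits AlgebraicGeometry TopologicalSpace Opposite
open HomogeneousLocalization AmpleLib
open TwistLib (genSet)

noncomputable section

namespace AmpleThLib

variable {X : Scheme.{u}} {R : Type u} [CommRing R]

/-- the structure morphism -/
abbrev baseA {A : Type u} [CommRing A] [Algebra R A] (𝒜 : ℕ → Submodule R A) [GradedAlgebra 𝒜] :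
    Proj 𝒜 ⟶ Spec (CommRingCat.of R) :=
  Proj.toSpecZero 𝒜 ≫ Spec.map (CommRingCat.ofHom (algebraMap R (𝒜 0)))

theorem map_baseA {A B : Type u} [CommRing A] [Algebra R A] [CommRing B] [Algebra R B]
    {𝒜 : ℕ → Submodule R A} [GradedAlgebra 𝒜] {ℬ : ℕ → Submodule R B} [GradedAlgebra ℬ]
    (φ : 𝒜 →+*ᵍ ℬ) (hφ : HomogeneousIdeal.irrelevant ℬ ≤ (HomogeneousIdeal.irrelevant 𝒜).map φ)
    (hR : ∀ c : R, φ (algebraMap R A c) = algebraMap R B c) :
    Proj.map φ hφ ≫ baseA 𝒜 = baseA ℬ := by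
  suffices key : ∀ (i : ℕ) (hi : 0 < i) (t : A) (ht : t ∈ 𝒜 i),
      Proj.awayι ℬ (φ t) (φ.map_mem ht) hi ≫ Proj.map φ hφ ≫ baseA 𝒜 =
        Proj.awayι ℬ (φ t) (φ.map_mem ht) hi ≫ baseA ℬ from
    (Proj.mapAffineOpenCover φ hφ).openCover.hom_ext _ _ fun s => key _ s.1.2 _ s.2.2
  intro i hi t ht
  rw [Proj.awayι_comp_map_assoc φ hφ hi t ht, baseA, baseA, Proj.awayι_toSpecZero_assoc,
    Proj.awayι_toSpecZero_assoc, ← Spec.map_comp, ← Spec.map_comp, ← Spec.map_comp]
  congr 1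
  refine CommRingCat.hom_ext (RingHom.ext fun c => HomogeneousLocalization.val_injective _ ?_)
  simp only [CommRingCat.hom_comp, RingHom.comp_apply, CommRingCat.hom_ofHom]
  change (Away.map φ t (HomogeneousLocalization.mk
      ⟨0, algebraMap R (𝒜 0) c, ⟨1, SetLike.GradedOne.one_mem⟩, Submonoid.one_mem _⟩)).val =
    (HomogeneousLocalization.mk ⟨0, algebraMap R (ℬ 0) c, ⟨1, SetLike.GradedOne.one_mem⟩,
      Submonoid.one_mem _⟩).val
  simp only [Away.map, HomogeneousLocalization.map_mk, HomogeneousLocalization.val_mk]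
  exact Localization.mk_eq_mk_iff.mpr (Localization.r_iff_exists.mpr ⟨1, by simp [hR]⟩)

variable {M : X.Modules}

theorem exists_toPA (q : X ⟶ Spec (CommRingCat.of R)) (hM : PicF.IsInvertible M) {m : ℕ}
    (v : Fin (m + 1) → Γ(M, ⊤)) (hgen : ∀ y : X, ∃ k, y ∈ genSet hM (v k)) :
    ∃ (r : X ⟶ Proj (CohB1.polyGrading m R)), r ≫ baseA (CohB1.polyGrading m R) = q ∧
      (∀ k, r ⁻¹ᵁ Proj.basicOpen (CohB1.polyGrading m R) (MvPolynomial.X k) = genSet hM (v k)) ∧
      ∀ k j, (show Γ(X, r ⁻¹ᵁ Proj.basicOpen (CohB1.polyGrading m R) (MvPolynomial.X k)) from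
          r.app _ (Proj.awayToSection (CohB1.polyGrading m R) (MvPolynomial.X k)
            (TwistLib.frac (CohB1.polyGrading m R) (MvPolynomial.isHomogeneous_X R k)
              (MvPolynomial.isHomogeneous_X R j)))) •
        res M (le_top : r ⁻¹ᵁ Proj.basicOpen (CohB1.polyGrading m R) (MvPolynomial.X k) ≤ ⊤) (v k) =
          res M le_top (v j) := by
  classical
  let 𝒮 := CohB1.polyGrading m R
  let b := Pi.basisFun R (Fin (m + 1))
  let ι : (Fin (m + 1) → R) →ₗ[R] MvPolynomial (Fin (m + 1)) R :=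
    Module.Basis.constr b R MvPolynomial.X
  have hι : ∀ c, ι c ∈ 𝒮 1 := by
    intro c
    rw [Module.Basis.constr_apply_fintype]
    exact sum_mem fun i _ => Submodule.smul_mem _ _ (MvPolynomial.isHomogeneous_X _ i)
  have hsym : IsSymmetricAlgebra ι := SymmetricAlgebra.IsSymmetricAlgebra.mvPolynomial (Fin (m + 1)) b
  let ρ := ProjUP.toGlobal q
  let v' : (Fin (m + 1) → R) →+ Γ(M, ⊤) :=
    AddMonoidHom.mk' (fun c => ∑ i, ρ (c i) • v i)
      (fun c c' => by simp only [Pi.add_apply, map_add, add_smul, Finset.sum_add_distrib])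
  have hv : ∀ (a : R) c, v' (a • c) = ρ a • v' c := fun a c => by
    simp only [v', AddMonoidHom.mk'_apply, Finset.smul_sum]
    exact Finset.sum_congr rfl fun i _ => by rw [Pi.smul_apply, smul_eq_mul, map_mul, mul_smul]
  have hb : ∀ k, v' (b k) = v k := fun k => by
    simp only [v', b, AddMonoidHom.mk'_apply, Pi.basisFun_apply]
    rw [Finset.sum_eq_single k (fun i _ hi => by rw [Pi.single_eq_of_ne hi, map_zero, zero_smul])
      (fun h => absurd (Finset.mem_univ k) h), Pi.single_eq_same, map_one, one_smul]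
  have hbι : ∀ k, ι (b k) = MvPolynomial.X k := fun k => b.constr_basis _ _ k
  obtain ⟨r, hrb, τ, hτ⟩ := TwistLib.SymUP.exists_r_τ 𝒮 ι hι hsym q M hM v' hv fun y => by
    obtain ⟨k, hk⟩ := hgen y
    exact ⟨b k, show y ∈ genSet hM (v' (b k)) by rw [hb]; exact hk⟩
  let glob : Fin (m + 1) → Γ(Twist.twist 𝒮 ((1 : ℕ) : ℤ), ⊤) := fun k =>
    Twist.globalOf 𝒮 ⟨MvPolynomial.X k, MvPolynomial.isHomogeneous_X R k⟩
  have hτ' : ∀ k, τ.hom.app ⊤ (KFlatLib.puSec r (glob k)) = v k := fun k => by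
    refine Eq.trans ?_ ((hτ (b k)).trans (hb k))
    refine congrArg (fun t : 𝒮 1 => τ.hom.app ⊤ (KFlatLib.puSec r (U := ⊤)
      (show Γ(Twist.twist 𝒮 ((1 : ℕ) : ℤ), ⊤) from Twist.globalOf 𝒮 t))) ?_
    exact Subtype.ext (hbι k).symm
  refine ⟨r, hrb, fun k => ?_, fun k j => ?_⟩
  · ext y
    change r y ∈ Proj.basicOpen 𝒮 (MvPolynomial.X k) ↔ GenAt M (v k) _
    rw [← hbι k, ← TwistLib.SymUP.genAt_pull_iff 𝒮 ι hι hsym r (b k) y, ← hb k, ← hτ (b k)]
    exact (TwistLib.genAt_app_iso τ _ _).symm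
  · let D := Proj.basicOpen 𝒮 (MvPolynomial.X k)
    have hc := TwistLib.frac_smul_globalOf 𝒮 (MvPolynomial.isHomogeneous_X R k) (MvPolynomial.isHomogeneous_X R j)
    have h1 := congrArg (fun t => τ.hom.app (r ⁻¹ᵁ D) (KFlatLib.puSec r t)) hc
    have h2 : ∀ i, τ.hom.app (r ⁻¹ᵁ D) (KFlatLib.puSec r
        (res (Twist.twist 𝒮 ((1 : ℕ) : ℤ)) (le_top : D ≤ ⊤) (glob i))) =
          res M (le_top : r ⁻¹ᵁ D ≤ ⊤) (v i) := fun i => by
      rw [← hτ' i, TwistLib.puSec_res]
      exact NatTrans.naturality_apply τ.hom.mapPresheaf (homOfLE (le_top : r ⁻¹ᵁ D ≤ ⊤)).op _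
    have e1 := congrArg (τ.hom.app (r ⁻¹ᵁ D)) (TwistLib.puSec_smul r
      (show Γ(Proj 𝒮, D) from Proj.awayToSection 𝒮 (MvPolynomial.X k)
        (TwistLib.frac 𝒮 (MvPolynomial.isHomogeneous_X R k) (MvPolynomial.isHomogeneous_X R j)))
      (res (Twist.twist 𝒮 ((1 : ℕ) : ℤ)) (le_top : D ≤ ⊤) (glob k)))
    have h3 := (Scheme.Modules.Hom.app_smul τ.hom _ _).symm.trans (e1.symm.trans h1)
    exact ((congrArg (_ • ·) (h2 k)).symm.trans h3).trans (h2 j)

theorem exists_closedImmersion (q : X ⟶ Spec (CommRingCat.of R)) [IsProper q]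
    {L : X.Modules} (hL : PicF.IsInvertible L) (hA : CohB1.IsAmple L) :
    ∃ (m : ℕ) (r : X ⟶ Proj (CohB1.polyGrading m R)), IsClosedImmersion r ∧
      r ≫ baseA (CohB1.polyGrading m R) = q := by
  obtain ⟨n₀, h⟩ := exists_data q hL hA
  obtain ⟨m, v, K, hcov, haff, hsurj⟩ := h n₀ le_rfl
  obtain ⟨r, hrb, hpre, hcoef⟩ := exists_toPA q _ v fun x => (hcov x).imp fun k hk => hk.2
  let p := baseA (CohB1.polyGrading m R)
  have : IsProper (r ≫ p) := by rw [hrb]; infer_instance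
  have : IsSeparated p := by simp only [p, baseA]; infer_instance
  have : IsProper r := IsProper.of_comp r p
  refine ⟨m, r, ?_, hrb⟩
  have : IsImmersion r := by
    refine isImmersion_of_local r
      (fun k : K => Proj.basicOpen (CohB1.polyGrading m R) (MvPolynomial.X (k : Fin (m + 1)))) (fun x => ?_)
      (fun ⟨k, hk⟩ => ?_)
    · obtain ⟨k, hk, hx⟩ := hcov x
      exact ⟨⟨k, hk⟩, (hpre k).ge hx⟩
    · let D := Proj.basicOpen (CohB1.polyGrading m R) (MvPolynomial.X k)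
      have : IsAffine (r ⁻¹ᵁ D).toScheme := (hpre k).symm ▸ haff k hk
      have : IsAffine D.toScheme :=
        Proj.isAffineOpen_basicOpen _ _ (MvPolynomial.isHomogeneous_X R k) one_pos
      refine IsClosedImmersion.of_surjective_of_isAffine _ ?_
      rw [Scheme.Hom.appTop, morphismRestrict_app']
      refine surjective_appLE_congr r D.ι_image_top.symm
        ((hpre k).symm.trans (Scheme.Opens.ι_image_top _).symm) (hpre k).ge _ ?_
      intro a
      suffices h : a ∈ (r.appLE D _ (hpre k).ge).hom.range from h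
      refine (show Subring.closure _ ≤ _ from Subring.closure_le.mpr ?_) ((hsurj k hk).ge (Subring.mem_top a))
      rintro _ (⟨y, rfl⟩ | ⟨l, hl⟩)
      · refine ⟨p.appLE ⊤ D le_top y, ?_⟩
        rw [← CommRingCat.comp_apply, Scheme.Hom.appLE_comp_appLE]
        simp only [p, hrb]
      · refine ⟨Proj.awayToSection (CohB1.polyGrading m R) (MvPolynomial.X k)
          (TwistLib.frac (CohB1.polyGrading m R) (MvPolynomial.isHomogeneous_X R k)
            (MvPolynomial.isHomogeneous_X R l)), ?_⟩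
        refine (TwistLib.genSet_genOn (tensorPow_isInvertible hL n₀) (v k) _ le_rfl).1 ?_
        dsimp only
        rw [res_res, hl]
        have h1 := congrArg (res _ (hpre k).ge) (hcoef k l)
        rw [res_smul, res_res, res_res] at h1
        refine Eq.trans ?_ h1
        congr 1
  exact IsClosedImmersion.of_isPreimmersion r r.isClosedMap.isClosed_range

end AmpleThLib

end
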