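import Groth.Agent.AmpleThLib.Ample

/-!
# Loci and restriction along open immersions
-/

set_option autoImplicit false
universe u

open CategoryTheory CategoryTheory.Limits AlgebraicGeometry TopologicalSpace Opposite
open AmpleLib
open TwistLib (genSet)

noncomputable section

namespace AmpleThLib

variable {X Y : Scheme.{u}} {L : X.Modules} (hL : PicF.IsInvertible L) (j : Y ⟶ X) [IsOpenImmersion j]

include hL in
theorem restrict_isInvertible : PicF.IsInvertible (L.restrict j) := fun y => by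
  obtain ⟨U, e, hyU, he⟩ := TwistLib.exists_genOn hL (j y)
  exact ⟨j ⁻¹ᵁ U, hyU, TwistLib.nonempty_iso_of_genOn _ (he.restrict j (j ⁻¹ᵁ U) (j.image_preimage_le U))⟩

/-- the restriction of a generator -/
abbrev rGen {U : X.Opens} (e : Γ(L, U)) : Γ(L.restrict j, j ⁻¹ᵁ U) :=
  res L (j.image_preimage_le U) e

include hL in
theorem exists_restrIso (n : ℕ) :
    ∃ φ : CohB1.tensorPow (L.restrict j) n ≅ (CohB1.tensorPow L n).restrict j,
      ∀ a : Gens L, φ.hom.app (j ⁻¹ᵁ a.1) (pS (rGen j a.2.1) n) = rGen j (pS a.2.1 n) := by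
  refine exists_iso_gens (fun a : Gens L => j ⁻¹ᵁ a.1) _ _ (fun y => gens_cover hL (j y))
    (fun a => pS_genOn (a.2.2.restrict j _ (j.image_preimage_le a.1)) n)
    (fun a => (pS_genOn a.2.2 n).restrict j _ (j.image_preimage_le a.1)) ?_
  intro a b V ha hb
  obtain ⟨c, hc⟩ := ((a.2.2.restrict j _ (j.image_preimage_le a.1)) V ha).2
    (res (L.restrict j) hb (rGen j b.2.1))
  dsimp only at hc
  refine ⟨c ^ n, ?_, ?_⟩
  · rw [pS_res, pS_res]
    exact ((congrArg (fun t => pS t n) hc).symm.trans (pS_smul c _ n)).symm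
  · have ha' : j ''ᵁ V ≤ a.1 := (j.image_mono ha).trans (j.image_preimage_le _)
    have hb' : j ''ᵁ V ≤ b.1 := (j.image_mono hb).trans (j.image_preimage_le _)
    have hc' : (show Γ(X, j ''ᵁ V) from (j.appIso V).inv c) • res L ha' a.2.1 = res L hb' b.2.1 := by
      refine Eq.trans ?_ ((hc.trans ?_ : _ = res L hb' b.2.1))
      · exact congrArg (fun t : Γ(L, j ''ᵁ V) => (show Γ(X, j ''ᵁ V) from (j.appIso V).inv c) • t)
          (res_res L (j.image_preimage_le a.1) (j.image_mono ha) a.2.1).symm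
      · exact res_res L (j.image_preimage_le b.1) (j.image_mono hb) b.2.1
    change (show Γ(X, j ''ᵁ V) from (j.appIso V).inv (c ^ n)) •
        res _ (j.image_mono ha) (res _ (j.image_preimage_le a.1) (pS a.2.1 n)) =
      res _ (j.image_mono hb) (res _ (j.image_preimage_le b.1) (pS b.2.1 n))
    rw [res_res, res_res, pS_res, pS_res, ← hc', pS_smul, map_pow]

/-- the restriction of a global section of `L^n`, as a section of `(L|Y)^n` -/
def rSec (n : ℕ) (σ : Γ(CohB1.tensorPow L n, j ''ᵁ ⊤)) : Γ(CohB1.tensorPow (L.restrict j) n, ⊤) :=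
  (exists_restrIso hL j n).choose.inv.app ⊤ σ

theorem genSet_rSec (n : ℕ) (σ : Γ(CohB1.tensorPow L n, ⊤)) :
    genSet (tensorPow_isInvertible (restrict_isInvertible hL j) n)
        (rSec hL j n (res _ le_top σ)) =
      j ⁻¹ᵁ genSet (tensorPow_isInvertible hL n) σ := by
  let N := (CohB1.tensorPow L n).restrict j
  let σ' : Γ(N, ⊤) := res (CohB1.tensorPow L n) (le_top : j ''ᵁ ⊤ ≤ ⊤) σ
  refine (genSet_iso (restrict_isInvertible (tensorPow_isInvertible hL n) j) _
    (exists_restrIso hL j n).choose.symm σ').trans ?_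
  ext y
  obtain ⟨U, e, hyU, he⟩ := TwistLib.exists_genOn (tensorPow_isInvertible hL n) (j y)
  obtain ⟨r, hr⟩ := exists_coeff σ he
  let r' : Γ(Y, j ⁻¹ᵁ U) := j.app U r
  have hr' : r' • (rGen j e : Γ(N, j ⁻¹ᵁ U)) = res N le_top σ' := by
    change (show Γ(X, j ''ᵁ (j ⁻¹ᵁ U)) from (j.appIso _).inv (j.app U r)) •
      res _ (j.image_preimage_le U) e = res _ _ (res _ _ σ)
    rw [← CommRingCat.comp_apply, Scheme.Hom.app_appIso_inv, res_res,
      ← res_res _ (le_top : U ≤ ⊤) (j.image_preimage_le U), ← hr, res_smul]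
    rfl
  have h1 := SetLike.ext_iff.mp (mem_genSet_coeff (tensorPow_isInvertible hL n) σ he hr) (j y)
  have h2 := SetLike.ext_iff.mp (mem_genSet_coeff (restrict_isInvertible (tensorPow_isInvertible hL n) j) σ'
    (he.restrict j (j ⁻¹ᵁ U) (j.image_preimage_le U)) hr') y
  rw [← Scheme.preimage_basicOpen] at h2
  simp only [Opens.mem_inf, hyU, and_true] at h1
  simp only [Opens.mem_inf, show y ∈ j ⁻¹ᵁ U from hyU, and_true] at h2
  exact h2.trans h1.symm

theorem IsLocus.restrict {n : ℕ} {W : X.Opens} (h : IsLocus hL n W) :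
    IsLocus (restrict_isInvertible hL j) n (j ⁻¹ᵁ W) := by
  obtain ⟨σ, rfl⟩ := h
  exact ⟨_, genSet_rSec hL j n σ⟩

theorem IsLocus.of_restrict [IsIso j] {n : ℕ} {V : Y.Opens}
    (h : IsLocus (restrict_isInvertible hL j) n V) : IsLocus hL n (j ''ᵁ V) := by
  obtain ⟨τ, rfl⟩ := h
  have htop : j ''ᵁ ⊤ = ⊤ := by
    rw [Scheme.Hom.image_top_eq_opensRange, Scheme.Hom.opensRange_of_isIso]
  let σ' : Γ(CohB1.tensorPow L n, j ''ᵁ ⊤) := (exists_restrIso hL j n).choose.hom.app ⊤ τ
  let σ : Γ(CohB1.tensorPow L n, ⊤) := res _ htop.ge σ'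
  have hσ : rSec hL j n (res _ le_top σ) = τ := by
    have h1 : res (CohB1.tensorPow L n) le_top σ = σ' := by
      rw [res_res]; exact res_refl _ σ'
    rw [h1]
    exact congr($((exists_restrIso hL j n).choose.hom_inv_id).app ⊤ τ)
  refine ⟨σ, ?_⟩
  rw [← hσ, genSet_rSec, Scheme.Hom.image_preimage_eq_opensRange_inf, Scheme.Hom.opensRange_of_isIso,
    top_inf_eq]

include hL in
theorem isAmple_of_restrict_iso [IsIso j] (h : CohB1.IsAmple (L.restrict j)) : CohB1.IsAmple L := by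
  obtain ⟨hc, hloc⟩ := (isAmple_iff (hL := restrict_isInvertible hL j)).mp h
  refine (isAmple_iff (hL := hL)).mpr ⟨(Scheme.homeoOfIso (asIso j)).compactSpace, fun x => ?_⟩
  obtain ⟨y, rfl⟩ := (Scheme.homeoOfIso (asIso j)).surjective x
  obtain ⟨n, V, hn, hV, hy, haff⟩ := hloc y
  exact ⟨n, j ''ᵁ V, hn, IsLocus.of_restrict hL j hV, ⟨y, hy, rfl⟩, haff.image_of_isOpenImmersion j⟩

end AmpleThLib

end
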