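import Groth.Agent.AmpleThLib.Ample
import Mathlib.AlgebraicGeometry.Morphisms.Affine

/-!
# Finite sets lie in affine loci of sections of powers of an ample module
-/

set_option autoImplicit false
set_option linter.style.haveILetI false
universe u

open CategoryTheory CategoryTheory.Limits AlgebraicGeometry TopologicalSpace Opposite
open AmpleLib
open TwistLib (genSet)

noncomputable section

namespace AmpleThLib

variable {X : Scheme.{u}}

lemma res_sum {M : X.Modules} {W V : X.Opens} (h : V ≤ W) {α : Type*} (t : Finset α) (σ : α → Γ(M, W)) :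
    res M h (∑ a ∈ t, σ a) = ∑ a ∈ t, res M h (σ a) := map_sum _ _ _

/-- If exactly one of the sections generates at `x`, so does the sum. -/
theorem mem_genSet_sum {M : X.Modules} (hM : PicF.IsInvertible M) {α : Type*} [DecidableEq α] {t : Finset α}
    {σ : α → Γ(M, ⊤)} {x : X} {a : α} (ha : a ∈ t) (hxa : x ∈ genSet hM (σ a))
    (hne : ∀ b ∈ t, b ≠ a → x ∉ genSet hM (σ b)) : x ∈ genSet hM (∑ b ∈ t, σ b) := by
  obtain ⟨U, e, hxU, he⟩ := TwistLib.exists_genOn hM x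
  choose r hr using fun b => exists_coeff (σ b) he
  have hsum : (∑ b ∈ t, r b) • e = res M le_top (∑ b ∈ t, σ b) := by
    rw [Finset.sum_smul, res_sum]
    exact Finset.sum_congr rfl fun b _ => hr b
  have key : ∀ b, x ∈ genSet hM (σ b) ↔ IsUnit (X.presheaf.germ U x hxU (r b)) := fun b => by
    rw [← Scheme.mem_basicOpen X (r b) x hxU, ← mem_genSet_coeff hM (σ b) he (hr b)]
    exact ⟨fun h => ⟨h, hxU⟩, fun h => h.1⟩
  have hu : IsUnit (X.presheaf.germ U x hxU (∑ b ∈ t, r b)) := by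
    rw [map_sum, ← Finset.add_sum_erase _ _ ha]
    have hm : ∑ b ∈ t.erase a, X.presheaf.germ U x hxU (r b) ∈ IsLocalRing.maximalIdeal (X.presheaf.stalk x) :=
      Ideal.sum_mem _ fun b hb => fun h => hne b (Finset.mem_of_mem_erase hb) (Finset.ne_of_mem_erase hb) ((key b).2 h)
    have h1 := (key a).1 hxa
    by_contra h
    have h2 : X.presheaf.germ U x hxU (r a) ∈ IsLocalRing.maximalIdeal (X.presheaf.stalk x) := by
      simpa using Ideal.sub_mem _ (show _ + _ ∈ IsLocalRing.maximalIdeal (X.presheaf.stalk x) from h) hm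
    exact h2 h1
  have := (Scheme.mem_basicOpen X (∑ b ∈ t, r b) x hxU).2 hu
  rw [← mem_genSet_coeff hM (∑ b ∈ t, σ b) he hsum] at this
  exact this.1

/-- The locus of a sum of sections with affine loci, inside the union of those loci, is affine. -/
theorem isAffineOpen_genSet_sum {M : X.Modules} (hM : PicF.IsInvertible M) {α : Type*} {t : Finset α}
    {σ : α → Γ(M, ⊤)} (hσ : ∀ a ∈ t, IsAffineOpen (genSet hM (σ a))) :
    IsAffineOpen (genSet hM (∑ a ∈ t, σ a)) := by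
  set G := genSet hM (∑ a ∈ t, σ a) with hG
  have hgen : GenOn M (res M (le_top : G ≤ ⊤) (∑ a ∈ t, σ a)) := TwistLib.genSet_genOn hM _
  choose c hc using fun a => exists_coeff (σ a) hgen
  have hinf : ∀ a, genSet hM (σ a) ⊓ G = X.basicOpen (c a) := fun a => mem_genSet_coeff hM (σ a) hgen (hc a)
  have hone : ∑ a ∈ t, c a = 1 := by
    refine (hgen G le_rfl).1 ?_
    dsimp only
    rw [res_refl, one_smul, Finset.sum_smul]
    conv_rhs => rw [res_sum]
    exact Finset.sum_congr rfl fun a _ => hc a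
  refine @isAffine_of_isAffineOpen_basicOpen G.toScheme
    (Set.range fun a : t => G.topIso.inv (c a.1)) ?_ ?_
  · rw [Ideal.eq_top_iff_one, ← map_one G.topIso.inv.hom, ← hone, map_sum]
    exact Ideal.sum_mem _ fun a ha => Ideal.subset_span ⟨⟨a, ha⟩, rfl⟩
  · rintro _ ⟨⟨a, ha⟩, rfl⟩
    rw [← Scheme.Hom.isAffineOpen_iff_of_isOpenImmersion G.ι, Scheme.Opens.ι_image_basicOpen']
    have haff : IsAffineOpen (genSet hM (σ a) ⊓ G) := by
      obtain ⟨b, hb⟩ := exists_coeff (∑ a ∈ t, σ a) (TwistLib.genSet_genOn hM (σ a))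
      rw [inf_comm, hG, mem_genSet_coeff hM _ (TwistLib.genSet_genOn hM (σ a)) hb]
      exact (hσ a ha).basicOpen b
    rw [hinf a] at haff
    convert haff using 2
    exact Iso.inv_hom_id_apply G.topIso (c a)

theorem exists_locus_finset {L : X.Modules} (hL : PicF.IsInvertible L) [CompactSpace X] [QuasiSeparatedSpace X]
    (hA : CohB1.IsAmple L) {Z : Set X} (hZ : Z.Finite) (U : X.Opens) (hZU : Z ⊆ U) :
    ∃ (n : ℕ) (V : X.Opens), 0 < n ∧ IsLocus hL n V ∧ Z ⊆ V ∧ V ≤ U ∧ IsAffineOpen V := by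
  classical
  let Zs : Finset X := hZ.toFinset.filter fun z => ∀ z' ∈ Z, z ⤳ z' → z' ⤳ z
  let Us : X → X.Opens := fun z => U ⊓ ⟨(⋃ z' ∈ {z' ∈ Z | ¬ z' ⤳ z}, closure {z'})ᶜ,
    (Set.Finite.isClosed_biUnion (hZ.subset fun _ h => h.1) fun _ _ => isClosed_closure).isOpen_compl⟩
  have hUs : ∀ z ∈ Zs, z ∈ Us z := fun z hz => by
    refine ⟨hZU (hZ.mem_toFinset.1 (Finset.mem_filter.1 hz).1), ?_⟩
    simp only [Set.mem_compl_iff, SetLike.mem_coe, Opens.mem_mk, Set.mem_iUnion]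
    rintro ⟨z', hz', hcl⟩
    exact hz'.2 (specializes_iff_mem_closure.2 hcl)
  have hmax : ∀ z ∈ Z, ∃ z₀ ∈ Zs, z ⤳ z₀ := by
    intro z hz
    obtain ⟨z₀, hz₀, hmin⟩ := Set.Finite.exists_maximalFor (fun w : X => {u ∈ Z | u ⤳ w})
      {w ∈ Z | z ⤳ w} (hZ.subset fun _ h => h.1) ⟨z, hz, specializes_rfl⟩
    refine ⟨z₀, Finset.mem_filter.2 ⟨hZ.mem_toFinset.2 hz₀.1, fun z' hz' h => ?_⟩, hz₀.2⟩
    exact (hmin ⟨hz', hz₀.2.trans h⟩ (fun u hu => ⟨hu.1, hu.2.trans h⟩) ⟨hz', specializes_rfl⟩).2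
  by_cases hne : Z.Nonempty
  swap
  · rw [Set.not_nonempty_iff_eq_empty] at hne
    subst hne
    refine ⟨1, ⊥, one_pos, ⟨0, eq_bot_iff.2 fun x hx => ?_⟩, Set.empty_subset _, bot_le, isAffineOpen_bot X⟩
    obtain ⟨W, e, hxW, he⟩ := TwistLib.exists_genOn (tensorPow_isInvertible hL 1) x
    have h0 : (0 : Γ(X, W)) • e = res (CohB1.tensorPow L 1) le_top 0 := by
      rw [zero_smul]; exact (map_zero _).symm
    have := mem_genSet_coeff (tensorPow_isInvertible hL 1) 0 he h0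
    rw [Scheme.basicOpen_zero] at this
    exact this.le ⟨hx, hxW⟩
  choose n V hn hV hzV haff hle using fun z : Zs => exists_locus_le hL hA (hUs z.1 z.2)
  let N := ∏ z : Zs, n z
  have hN : 0 < N := Finset.prod_pos fun z _ => hn z
  have hloc : ∀ z : Zs, IsLocus hL N (V z) := fun z => by
    obtain ⟨k, hk⟩ : n z ∣ N := Finset.dvd_prod_of_mem _ (Finset.mem_univ z)
    rw [hk]
    refine (hV z).mul_right (Nat.pos_of_ne_zero fun h => ?_)
    rw [h, mul_zero] at hk
    omega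
  choose σ hσ using hloc
  have haff' : IsAffineOpen (genSet (tensorPow_isInvertible hL N) (∑ z : Zs, σ z)) :=
    isAffineOpen_genSet_sum _ fun z _ => (hσ z) ▸ haff z
  refine ⟨N, _, hN, ⟨_, rfl⟩, fun z hz => ?_, fun x hx => ?_, haff'⟩
  · obtain ⟨z₀, hz₀, hs⟩ := hmax z hz
    refine hs.mem_open (genSet _ _).2 (mem_genSet_sum _ (a := ⟨z₀, hz₀⟩) (Finset.mem_univ _)
      ((hσ ⟨z₀, hz₀⟩).symm ▸ hzV ⟨z₀, hz₀⟩) fun b _ hb hzb => ?_)
    rw [hσ b] at hzb
    have hh := (hle b hzb).2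
    simp only [Set.mem_compl_iff, SetLike.mem_coe, Opens.mem_mk, Set.mem_iUnion] at hh
    have hz₀' := Finset.mem_filter.1 hz₀
    by_cases hsp : z₀ ⤳ b.1
    · have hb' := (Finset.mem_filter.1 b.2)
      have hback := hz₀'.2 b.1 (hZ.mem_toFinset.1 hb'.1) hsp
      exact hb (Subtype.ext (hback.antisymm hsp).eq)
    · exact hh ⟨z₀, ⟨hZ.mem_toFinset.1 hz₀'.1, hsp⟩, subset_closure rfl⟩
  · by_contra hxU
    obtain ⟨W, e, hxW, he⟩ := TwistLib.exists_genOn (tensorPow_isInvertible hL N) x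
    choose r hr using fun b => exists_coeff (σ b) he
    have hsum : (∑ b, r b) • e = res (CohB1.tensorPow L N) le_top (∑ b, σ b) := by
      rw [Finset.sum_smul, res_sum]
      exact Finset.sum_congr rfl fun b _ => hr b
    have hxr : ∀ b, x ∉ X.basicOpen (r b) := fun b hb => by
      rw [← mem_genSet_coeff (tensorPow_isInvertible hL N) (σ b) he (hr b), hσ b] at hb
      exact hxU (hle b hb.1).1
    have h := (mem_genSet_coeff _ _ he hsum).le ⟨hx, hxW⟩
    rw [Scheme.mem_basicOpen X _ x hxW, map_sum] at h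
    exact (Ideal.sum_mem (IsLocalRing.maximalIdeal (X.presheaf.stalk x)) fun b _ hb =>
      hxr b ((Scheme.mem_basicOpen X _ x hxW).2 hb) : _) h

theorem exists_affine_of_isAmple {L : X.Modules} [X.IsSeparated] (hA : CohB1.IsAmple L) {Z : Set X}
    (hZ : Z.Finite) (U : X.Opens) (hZU : Z ⊆ U) :
    ∃ (n : ℕ) (s : Coh.structureModule X ⟶ CohB1.tensorPow L (n + 1)),
      Z ⊆ CohB1.genLocus _ s ∧ (CohB1.genLocus _ s : Set X) ⊆ U ∧ IsAffineOpen (CohB1.genLocus _ s) := by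
  haveI : CompactSpace X := hA.2.1
  obtain ⟨n, V, hn, ⟨σ, rfl⟩, hZV, hVU, hV⟩ := exists_locus_finset hA.1 hA hZ U hZU
  obtain ⟨n, rfl⟩ := Nat.exists_eq_succ_of_ne_zero hn.ne'
  refine ⟨n, QCohLib.unitHom _ σ, ?_⟩
  rw [genLocus_unitHom (tensorPow_isInvertible hA.1 (n + 1)) σ]
  exact ⟨hZV, hVU, hV⟩

end AmpleThLib

namespace AmpleThLib

/-- A scheme with an ample module is quasi-separated. -/
theorem quasiSeparatedSpace_of_isAmple {X : Scheme.{u}} {L : X.Modules} (hA : CohB1.IsAmple L) :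
    QuasiSeparatedSpace X := by
  obtain ⟨-, hloc⟩ := (isAmple_iff (hL := hA.1)).mp hA
  choose n V hn hV hxV haff using hloc
  refine Scheme.quasiSeparatedSpace_of_isOpenCover V
    (IsOpenCover.mk (eq_top_iff.mpr fun x _ => Opens.mem_iSup.mpr ⟨x, hxV x⟩)) haff fun x y => ?_
  obtain ⟨σ, hσ⟩ := (hV x).mul_right (hn y)
  obtain ⟨τ, hτ⟩ := (mul_comm (n y) (n x)) ▸ (hV y).mul_right (hn x)
  obtain ⟨b, hb⟩ := exists_coeff σ (TwistLib.genSet_genOn (tensorPow_isInvertible hA.1 (n x * n y)) τ)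
  have h := mem_genSet_coeff (tensorPow_isInvertible hA.1 (n x * n y)) σ (TwistLib.genSet_genOn _ τ) hb
  rw [hσ] at h
  have hty : IsAffineOpen (genSet (tensorPow_isInvertible hA.1 (n x * n y)) τ) := hτ ▸ haff y
  have := (hty.basicOpen b).isCompact
  rw [← h, hτ] at this
  exact this

/-- Finite sets lie in affine opens. -/
theorem exists_affineOpen_finset {X : Scheme.{u}} {L : X.Modules} (hA : CohB1.IsAmple L) (s : Finset X) :
    ∃ U : X.Opens, IsAffineOpen U ∧ ∀ v ∈ s, v ∈ U := by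
  haveI : CompactSpace X := hA.2.1
  haveI := quasiSeparatedSpace_of_isAmple hA
  obtain ⟨n, V, -, -, hs, -, hV⟩ := exists_locus_finset hA.1 hA s.finite_toSet ⊤ (fun _ _ => trivial)
  exact ⟨V, hV, fun v hv => hs hv⟩

end AmpleThLib
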