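import Groth.Agent.RelProjLib.Coords
import Groth.Agent.TwistLib.PtApp

/-!
# Coordinates are pullbacks of fractions
-/

set_option autoImplicit false
universe u

open CategoryTheory CategoryTheory.Limits AlgebraicGeometry TopologicalSpace Opposite
open HomogeneousLocalization ChowLib RelProjLib
open MvPolynomial (X)

noncomputable section

namespace AmpleThLib

variable {n : ℕ}

/-- the fraction `x_j / x_a` as a function on `D₊(x_a)` -/
abbrev cj (a j : Fin (n + 1)) : Γ(PZ.{u} n, Dplus a) := Proj.awayToSection (gr.{u} n) (X a) (coordRing a j)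

theorem toSpecOf_awayι_appLE {R A : Type u} [CommRing R] [CommRing A] [Algebra R A]
    (𝒜 : ℕ → Submodule R A) [GradedAlgebra 𝒜] {Y : Scheme.{u}} {t : A} {d : ℕ} (ht : t ∈ 𝒜 d) (hd : 0 < d)
    (ψ : Away 𝒜 t →+* Γ(Y, ⊤))
    (h : ⊤ ≤ (toSpecOf ψ ≫ Proj.awayι 𝒜 t ht hd) ⁻¹ᵁ Proj.basicOpen 𝒜 t) (z : Away 𝒜 t) :
    (toSpecOf ψ ≫ Proj.awayι 𝒜 t ht hd).appLE (Proj.basicOpen 𝒜 t) ⊤ h
      (Proj.awayToSection 𝒜 t z) = ψ z := by
  have h1 := Groth.Agent.ProjQuot.awayι_le_preimage (𝒜 := 𝒜) ht hd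
  have e := Scheme.Hom.appLE_comp_appLE (toSpecOf ψ)
    (Proj.awayι 𝒜 t ht hd) (Proj.basicOpen 𝒜 t) ⊤ ⊤ h1 (by simp)
  have e2 : (toSpecOf ψ).appLE ⊤ ⊤ (by simp) =
      (Scheme.ΓSpecIso (CommRingCat.of (Away 𝒜 t))).hom ≫ CommRingCat.ofHom ψ := by
    simp [toSpecOf, Scheme.Hom.appLE]
  rw [← e, CommRingCat.comp_apply, ← CommRingCat.comp_apply (Proj.awayToSection 𝒜 t),
    Groth.Agent.ProjQuot.awayι_appLE_awayToSection ht hd, e2, CommRingCat.comp_apply,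
    ← CommRingCat.comp_apply (Scheme.ΓSpecIso _).inv, Iso.inv_hom_id]
  rfl

theorem coord_eq {Y : Scheme.{u}} (r : Y ⟶ PZ.{u} n) (a j : Fin (n + 1)) {W : Y.Opens}
    (hW : W ≤ r ⁻¹ᵁ Dplus a) : coord r a j hW = r.appLE (Dplus a) W hW (cj a j) := by
  apply (ConcreteCategory.bijective_of_isIso W.topIso.inv).1
  let v : Fin (n + 1) → Γ(W.toScheme, ⊤) := fun k => W.topIso.inv (coord r a k hW)
  have hu : IsUnit (v a) := by simp [v, coord_self]
  have h2 : ⊤ ≤ W.ι ⁻¹ᵁ W := by simp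
  have h3 : ⊤ ≤ (W.ι ≫ r) ⁻¹ᵁ Dplus a := fun x _ => hW x.2
  have e : W.ι.appLE W ⊤ h2 = W.topIso.inv := by
    simp [Scheme.Hom.appLE, Scheme.Opens.topIso_inv]
    erw [← Functor.map_comp]
    rfl
  rw [← CommRingCat.comp_apply (r.appLE _ _ _)]
  conv_rhs => rw [← e, Scheme.Hom.appLE_comp_appLE W.ι r _ _ _ hW h2]
  have key : ∀ (g : W.toScheme ⟶ PZ.{u} n) (hg : g = W.ι ≫ r) (h4 : ⊤ ≤ g ⁻¹ᵁ Dplus a),
      (W.ι ≫ r).appLE (Dplus a) ⊤ h3 = g.appLE (Dplus a) ⊤ h4 := by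
    intro g hg h4
    subst hg
    rfl
  have hp := ι_comp_q r a hW
  rw [key (pt v a hu) hp.symm (by rw [pt_preimage, Scheme.basicOpen_of_isUnit _ hu])]
  refine Eq.trans ?_ (toSpecOf_awayι_appLE (gr.{u} n) (X_mem a) one_pos _ _ (coordRing a j)).symm
  have h5 := awayEval_coord v a j (by simpa using hu)
  simp only [v, coord_self, map_one, mul_one] at h5
  exact h5.symm

end AmpleThLib

end
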